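import Groth.Agent.L22.Hyper.Main
import Groth.Agent.L22.Reg.Pn
import Groth.Agent.L22.PDual.Horrocks
import Groth.Agent.L22.PDual.LocFreeLow
import Groth.Agent.L03.PlanePoints
import Groth.Agent.L03.SurfAmple.Zero
import Groth.Agent.L03.SurfAdj.Tools
import Groth.Agent.L20.PnPic.Over
import Groth.Agent.L14.LocHilb.Lift.Obs.Transport
import Groth.Agent.L29.DCoh.Flat
import Groth.Agent.L29.DCoh.PullTensor
import Groth.Agent.L18.FiniteProjective

/-!
# Vector bundles on projective space and hyperplanes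
-/

set_option autoImplicit false
set_option linter.style.haveILetI false
set_option linter.unusedSectionVars false
set_option backward.isDefEq.respectTransparency false
set_option backward.isDefEq.respectTransparency.types false

universe u

open CategoryTheory CategoryTheory.Limits AlgebraicGeometry TopologicalSpace
open Groth.L18.Frame (rs ro rs_rs rs_self rs_smul pull pull_rs pull_smul IsFrame)
open Groth.L18.GenLoc (secOf)
open Groth.L22.Reg (O' tw')
open Groth.L22.Hyper (O1)
open Groth.L16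
open Groth.L00.Tensor (tensorIso tensorComm tensorAssoc tensorUnitRight)

noncomputable section

namespace Groth.L03.VBPn

variable {k : Type u} [Field k]

section Twists

variable {m n : ℕ} (j : CohB1.ProjSpace m k ⟶ CohB1.ProjSpace n k)

/-- A map pulling `O(1)` back to `O(1)` pulls every twist back to the twist. -/
theorem nonempty_pullback_twist (h1 : Nonempty ((Scheme.Modules.pullback j).obj (O' n k 1) ≅ O' m k 1)) (d : ℤ) :
    Nonempty ((Scheme.Modules.pullback j).obj (O' n k d) ≅ O' m k d) := by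
  have hinv : ∀ d, PicF.IsInvertibleCl (PicF.pullCl j (PicF.cl (O' n k d))) := fun d =>
    PicLoc.isInvertibleCl_pullCl _ ⟨_, rfl, ProjTwist.isInvertible_twistProjSpace n k d⟩
  have hinv' : ∀ d, PicF.IsInvertibleCl (PicF.cl (O' m k d)) := fun d =>
    ⟨_, rfl, ProjTwist.isInvertible_twistProjSpace m k d⟩
  have h : ∀ a b : ℤ, PicGrp.mulCl (PicF.pullCl j (PicF.cl (O' n k a))) (PicF.pullCl j (PicF.cl (O' n k b))) =
      PicF.pullCl j (PicF.cl (O' n k (a + b))) := fun a b => by
    rw [← Groth.Agent.AbDualLib.pullCl_mulCl, Groth.L20.PnPic.cl_twist_add]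
  have hz : PicF.pullCl j (PicF.cl (O' n k 0)) = PicF.cl (O' m k 0) := by
    rw [Groth.L20.PnPic.cl_twist_zero, Groth.L20.PnPic.cl_twist_zero, Groth.Agent.AbDualLib.pullCl_oneCl]
  have hone : PicF.pullCl j (PicF.cl (O' n k 1)) = PicF.cl (O' m k 1) :=
    (PicGrp.cl_eq_cl_iff _ _).2 h1
  have key : PicF.pullCl j (PicF.cl (O' n k d)) = PicF.cl (O' m k d) := by
    induction d with
    | zero => exact hz
    | succ i ih => rw [← h, ih, hone, Groth.L20.PnPic.cl_twist_add]
    | pred i ih =>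
      refine Groth.Agent.AbDualLib.mulCl_right_cancel (hinv _) (hinv' _) (hinv' 1) ?_
      rw [Groth.L20.PnPic.cl_twist_add, ← hone, h, sub_add_cancel]
      exact ih
  exact (PicGrp.cl_eq_cl_iff _ _).1 key

theorem nonempty_pullback_tw (h1 : Nonempty ((Scheme.Modules.pullback j).obj (O' n k 1) ≅ O' m k 1))
    (E : (CohB1.ProjSpace n k).Modules) (d : ℤ) :
    Nonempty ((Scheme.Modules.pullback j).obj (tw' E d) ≅ tw' ((Scheme.Modules.pullback j).obj E) d) := by
  obtain ⟨e⟩ := nonempty_pullback_twist j h1 d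
  exact ⟨(Groth.L29.DC.PullTensor.pullTensor j E (O' n k d)).symm ≪≫ tensorIso (Iso.refl _) e⟩

end Twists

/-- A linear subspace lies in a hyperplane, embedded linearly. -/
theorem exists_hyperplane_through {n m : ℕ} (hm : m ≤ n) (i : CohB1.ProjSpace m k ⟶ CohB1.ProjSpace (n + 1) k)
    [IsClosedImmersion i] (hi : i ≫ CohB1.ProjSpace.toSpec (n + 1) k = CohB1.ProjSpace.toSpec m k)
    (h1 : Nonempty ((Scheme.Modules.pullback i).obj (O' (n + 1) k 1) ≅ O' m k 1)) :
    ∃ (j : CohB1.ProjSpace n k ⟶ CohB1.ProjSpace (n + 1) k) (i' : CohB1.ProjSpace m k ⟶ CohB1.ProjSpace n k)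
      (s : Coh.structureModule (CohB1.ProjSpace (n + 1) k) ⟶ O' (n + 1) k 1),
      IsClosedImmersion j ∧ IsClosedImmersion i' ∧ j ≫ CohB1.ProjSpace.toSpec (n + 1) k = CohB1.ProjSpace.toSpec n k ∧
        i' ≫ CohB1.ProjSpace.toSpec n k = CohB1.ProjSpace.toSpec m k ∧ i' ≫ j = i ∧
        Nonempty ((Scheme.Modules.pullback j).obj (O' (n + 1) k 1) ≅ O' n k 1) ∧
        Nonempty ((Scheme.Modules.pullback i').obj (O' n k 1) ≅ O' m k 1) ∧
        s ≠ 0 ∧ j.ker = PicF2.zeroScheme _ s := by
  classical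
  let P := CohB1.ProjSpace (n + 1) k
  let L := O' (n + 1) k 1
  have hL : PicF.IsInvertible L := ProjTwist.isInvertible_twistProjSpace _ k _
  obtain ⟨e1⟩ := h1
  -- a linear form vanishing on the subspace
  obtain ⟨g⟩ := Groth.L14.LocHilbLift.nonempty_HH_pushEquiv (k := k) i hi ((Scheme.Modules.pullback i).obj L) 0
  let η := (Scheme.Modules.pullbackPushforwardAdjunction i).unit.app L
  let r : Coh.HH P L 0 →ₗ[k] Coh.HH P ((Scheme.Modules.pushforward i).obj ((Scheme.Modules.pullback i).obj L)) 0 :=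
    Groth.L21.RR.hk k η 0
  have hfin : ∀ N : ℕ, Module.Finite k (Coh.HH (CohB1.ProjSpace N k) (O' N k 1) 0) ∧
      Module.finrank k (Coh.HH (CohB1.ProjSpace N k) (O' N k 1) 0) = N + 1 := fun N => by
    obtain ⟨e⟩ := ProjSpace.nonempty_H0_twist_linearEquiv N k 1
    haveI := (Groth.L03.PlanePoints.finrank_homogeneous (F := k) N 1).1
    refine ⟨Module.Finite.equiv e.symm, e.finrank_eq.trans ?_⟩
    rw [(Groth.L03.PlanePoints.finrank_homogeneous (F := k) N 1).2, add_comm 1 N, Nat.choose_succ_self_right]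
  haveI := (hfin m).1
  haveI := (hfin (n + 1)).1
  obtain ⟨gm⟩ : Nonempty (Coh.HH (CohB1.ProjSpace m k) ((Scheme.Modules.pullback i).obj L) 0 ≃ₗ[k]
      Coh.HH (CohB1.ProjSpace m k) (O' m k 1) 0) := ⟨Groth.L03.SurfAdj.hhEquiv k e1 0⟩
  have hker : r.ker ≠ ⊥ := fun hbot => by
    have hinj : Function.Injective ((g.trans gm).toLinearMap ∘ₗ r) :=
      (g.trans gm).injective.comp (LinearMap.ker_eq_bot.1 hbot)
    have := LinearMap.finrank_le_finrank_of_injective hinj
    rw [(hfin m).2, (hfin (n + 1)).2] at this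
    omega
  obtain ⟨z, hz, hz0⟩ := (Submodule.ne_bot_iff _).1 hker
  let s : Coh.structureModule P ⟶ L := Groth.L16.homOfSection L (Groth.L21.RR.e0 L z)
  have hsec : secOf s = Groth.L21.RR.e0 L z := Groth.L18.GenLoc.secOf_homOfSection _
  have hs0 : s ≠ 0 := fun h => hz0 <| (Groth.L21.RR.e0 L).injective <| by
    rw [← hsec, h, map_zero]
    rfl
  have hpull : pull i L ⊤ (secOf s) = 0 := by
    rw [hsec]
    exact (Groth.L21.RR.e0_hmap η z).symm.trans
      ((congrArg (Groth.L21.RR.e0 _) (LinearMap.mem_ker.1 hz)).trans (map_zero _))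
  -- the hyperplane
  obtain ⟨f, hf⟩ := ProjSpace.polyToSection_surjective (n := n + 1) (R := k) 1 (secOf s)
  have hf0 : f.1 ≠ 0 := fun h0 => hs0 <| by
    have : f = 0 := Subtype.ext h0
    subst this
    rw [← Groth.L18.GenLoc.homOfSection_secOf s,
      ← Groth.L18.GenLoc.homOfSection_secOf (0 : Coh.structureModule P ⟶ L), ← hf]
    refine congrArg (Groth.L16.homOfSection L) ?_
    refine Subtype.ext (funext fun x => Subtype.ext ?_)
    exact Localization.mk_zero _
  obtain ⟨j₀, hj₀⟩ := Groth.L22.Hyper.exists_coeff_ne_zero f.2 hf0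
  let Z := PicF2.zeroScheme L s
  obtain ⟨e, he⟩ := Groth.L18.ClosedSub.exists_iso Z.subschemeι
    (Finset.univ.image (MvPolynomial.X : Fin (n + 2) → MvPolynomial (Fin (n + 2)) k))
    (fun g hg => by obtain ⟨j, -, rfl⟩ := Finset.mem_image.1 hg; exact ProjSpace.X_mem (n + 1) k j)
    ((ProjSpace.irrelevant_le_span (n + 1) k).trans (le_of_eq (by simp)))
    (Groth.L22.Hyper.substGr f.1 j₀) (Groth.L22.Hyper.substGr_surjective f.1 j₀) (Groth.L22.Hyper.map_irr f.1 j₀)
    (Groth.L22.Hyper.subst_eq_zero_iff hj₀ hf.symm)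
  let j : CohB1.ProjSpace n k ⟶ P := Groth.L22.Hyper.hypMap f.1 j₀
  have hje : j = e.inv ≫ Z.subschemeι := by rw [← he]; simp [j, Groth.L22.Hyper.hypMap]
  haveI hjc : IsClosedImmersion j := by rw [hje]; infer_instance
  have hjker : j.ker = Z := by
    rw [hje, Scheme.Hom.ker_comp_of_isIso, Scheme.IdealSheafData.ker_subschemeι]
  have hjs : j ≫ CohB1.ProjSpace.toSpec (n + 1) k = CohB1.ProjSpace.toSpec n k := by
    simp only [j, Groth.L22.Hyper.hypMap, CohB1.ProjSpace.toSpec]
    rw [← Category.assoc, Groth.L18.FinProj.map_toSpecZero, Category.assoc, ← Spec.map_comp, ← CommRingCat.ofHom_comp]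
    congr 3
    refine RingHom.ext fun c => Subtype.ext ?_
    exact (Groth.L22.Hyper.subst f.1 j₀).commutes c
  -- the subspace lies in it
  have hle : Z ≤ i.ker := by
    refine sup_eq_right.1 ?_
    choose W fr hWa hxW hfr using fun x : P => Groth.L18.GenLoc.exists_affine_frame hL x
    refine Scheme.IdealSheafData.ext_of_iSup_eq_top (fun x : P => ⟨W x, hWa x⟩)
      (top_le_iff.1 fun x _ => Opens.mem_iSup.2 ⟨x, hxW x⟩) fun x => ?_
    rw [Scheme.IdealSheafData.ideal_sup, Pi.sup_apply, sup_eq_right]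
    obtain ⟨c, hc⟩ := (hfr x).exists_coeff le_rfl (rs L le_top (secOf s))
    rw [rs_self] at hc
    rw [Groth.L03.SurfAmple.zeroScheme_ideal_span hL s (V := ⟨W x, hWa x⟩) (hfr x) hc, Ideal.span_le,
      Set.singleton_subset_iff, SetLike.mem_coe, Scheme.Hom.ker_apply, RingHom.mem_ker]
    refine ((hfr x).pullback i L).inj le_rfl ?_
    rw [rs_self, zero_smul, ← pull_smul, hc, ← pull_rs i L le_top, hpull]
    exact map_zero _
  let i' := IsClosedImmersion.lift j i (hjker.le.trans hle)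
  have hi'j : i' ≫ j = i := IsClosedImmersion.lift_fac _ _ _
  haveI : IsClosedImmersion i' := by
    haveI : IsClosedImmersion (i' ≫ j) := by rw [hi'j]; infer_instance
    exact IsClosedImmersion.of_comp i' j
  obtain ⟨p⟩ := Groth.L22.Hyper.nonempty_pullback_O1 (k := k) f.1 j₀
  have hi's : i' ≫ CohB1.ProjSpace.toSpec n k = CohB1.ProjSpace.toSpec m k := by
    rw [← hjs, ← Category.assoc, hi'j, hi]
  refine ⟨j, i', s, hjc, inferInstance, hjs, hi's, hi'j, ⟨p⟩, ⟨?_⟩, hs0, hjker⟩
  exact (Scheme.Modules.pullback i').mapIso p.symm ≪≫ (Scheme.Modules.pullbackComp i' j).app _ ≪≫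
    (Scheme.Modules.pullbackCongr hi'j).app _ ≪≫ e1

end Groth.L03.VBPn
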