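import Groth.Agent.L03.VBPn.LinSub
import Groth.Agent.L03.VBPn.Hyper
import Groth.Agent.L22.Reg.Lin
import Groth.Agent.L29.DCoh.PullTensor

/-!
# The cotangent sheaf restricted to linear subspaces
-/

set_option autoImplicit false
set_option linter.style.haveILetI false
set_option backward.isDefEq.respectTransparency false
set_option backward.isDefEq.respectTransparency.types false

universe u

open CategoryTheory CategoryTheory.Limits AlgebraicGeometry
open Groth.L22.Reg (O' tw')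
open Groth.L00.Tensor (tensorIso tensorRightF tensorUnitLeft tensorUnitRight)

noncomputable section

namespace Groth.L03.VBPn

variable {k : Type u} [Field k]

theorem isExtPow_one_self {X : Scheme.{u}} (E : X.Modules) : ExtPow.IsExtPow 1 E E := by
  refine ⟨fun U => (exteriorPower.oneEquiv Γ(X, U.1) (E.val.obj (Opposite.op U.1))).symm, fun U V hVU e => ?_⟩
  simp only [LinearEquiv.symm_symm, exteriorPower.oneEquiv_ιMulti]

theorem nonempty_omega_P1 : Nonempty (Omega.sheaf (CohB1.ProjSpace.toSpec 1 k) ≅ O' 1 k (-2)) := by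
  obtain ⟨e⟩ := Groth.L22.Adjunction.nonempty_topForms_projSpace 1 k (isExtPow_one_self _)
  exact ⟨e⟩

theorem nonempty_tw_one_neg_one {n : ℕ} (F : (CohB1.ProjSpace n k).Modules) :
    Nonempty (tw' (CohB1.tensorMod F (L1 n k)) (-1) ≅ F) := by
  obtain ⟨a⟩ := Groth.L22.Reg.nonempty_tw_tw (n := n) (R := k) F (show ((1 : ℕ) : ℤ) + -1 = 0 by norm_num)
  obtain ⟨b⟩ := Groth.L22.Reg.nonempty_tw_zero (n := n) (R := k) F
  exact ⟨a ≪≫ b⟩

/-- `i^*Ω ≅ Ω ⊕ O(-1)^{n-m}` for a linear subspace. -/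
theorem nonempty_pullback_omega {n m : ℕ} (i : CohB1.ProjSpace m k ⟶ CohB1.ProjSpace n k)
    (h1 : Nonempty ((Scheme.Modules.pullback i).obj (O' n k 1) ≅ O' m k 1)) (hm : m ≤ n) :
    Nonempty ((Scheme.Modules.pullback i).obj (Omega.sheaf (CohB1.ProjSpace.toSpec n k)) ≅
      Omega.sheaf (CohB1.ProjSpace.toSpec m k) ⊞ ∐ fun _ : Fin (n - m) => O' m k (-1)) := by
  obtain ⟨e⟩ := h1
  let Ωn := Omega.sheaf (CohB1.ProjSpace.toSpec n k)
  obtain ⟨H⟩ := nonempty_pullback_omega_one i e hm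
  let P : (Scheme.Modules.pullback i).obj (CohB1.tensorMod Ωn (L1 n k)) ≅
      CohB1.tensorMod ((Scheme.Modules.pullback i).obj Ωn) (L1 m k) :=
    (Groth.L29.DC.PullTensor.pullTensor i Ωn (L1 n k)).symm ≪≫ tensorIso (Iso.refl _) e
  obtain ⟨a⟩ := nonempty_tw_one_neg_one ((Scheme.Modules.pullback i).obj Ωn)
  obtain ⟨b⟩ := nonempty_tw_one_neg_one (Omega.sheaf (CohB1.ProjSpace.toSpec m k))
  obtain ⟨c⟩ := Groth.L22.Reg.nonempty_tensor_sigma (n := m) (R := k)
    (fun _ : Fin (n - m) => Coh.structureModule (CohB1.ProjSpace m k)) (O' m k (-1))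
  haveI := Groth.L00.Tensor.preservesColimits_tensorRightF (O' m k (-1))
  haveI : PreservesBinaryBiproduct (CohB1.tensorMod (Omega.sheaf (CohB1.ProjSpace.toSpec m k)) (L1 m k))
      (FlatMod.freeMod (CohB1.ProjSpace m k) (n - m)) (tensorRightF (O' m k (-1))) :=
    preservesBinaryBiproduct_of_preservesBinaryCoproduct _
  exact ⟨a.symm ≪≫ (tensorRightF (O' m k (-1))).mapIso (P.symm ≪≫ H) ≪≫
    (tensorRightF (O' m k (-1))).mapBiprod _ _ ≪≫
    biprod.mapIso b (c ≪≫ Sigma.mapIso fun _ => tensorUnitLeft _)⟩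

end Groth.L03.VBPn
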