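import Groth.Agent.L03.VBPn.CotEnd
import Groth.Agent.L21.RR.Sections
import Mathlib.FieldTheory.Minpoly.Field
import Mathlib.RingTheory.IntegralClosure.IsIntegralClosure.Basic
import Mathlib.FieldTheory.IsAlgClosed.Basic

/-!
# Endomorphisms of cokernels of matrices of sections

A monomorphism `f : P ⟶ Q` with `Hom(Q, P) = 0` and `Ext¹(Q, P) = 0`: maps between cokernels lift
uniquely to the sources.
-/

set_option autoImplicit false
set_option linter.style.haveILetI false
set_option backward.isDefEq.respectTransparency false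

universe u

open CategoryTheory CategoryTheory.Limits CategoryTheory.Abelian AlgebraicGeometry TopologicalSpace
open Groth.L00.Tensor (tensorRightF tensorIso tensorComm tensorUnitLeft)
open Groth.L22.PDual (isEquivalence_tensorRightF subsingleton_ext_of_twist)

noncomputable section

namespace Groth.L03.VBPn.CokerSimple

variable {X : Scheme.{u}}

/-- Maps out of an invertible module are sections of the twist. -/
theorem hom_eq_zero_of_twist {L L' : X.Modules} (e : CohB1.tensorMod L L' ≅ Coh.structureModule X)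
    {M : X.Modules} (h : Subsingleton (Coh.HH X (CohB1.tensorMod M L') 0)) (g : L ⟶ M) : g = 0 := by
  haveI := isEquivalence_tensorRightF (tensorComm L' L ≪≫ e)
  haveI : Subsingleton Γ(CohB1.tensorMod M L', ⊤) :=
    (Groth.L21.RR.e0 (CohB1.tensorMod M L')).symm.toEquiv.subsingleton
  haveI : (tensorRightF L').Additive := Functor.additive_of_preserves_binary_products _
  refine (tensorRightF L').map_injective ((cancel_epi e.inv).1 ?_)
  exact Groth.L21.RR.hom_ext_one (Subsingleton.elim (α := Γ(CohB1.tensorMod M L', ⊤)) _ _)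

theorem hom_sigma_eq_zero {N : ℕ} {L M : X.Modules} (h : ∀ g : L ⟶ M, g = 0)
    (g : (∐ fun _ : Fin N => L) ⟶ M) : g = 0 :=
  Sigma.hom_ext _ _ fun j => by rw [comp_zero]; exact h _

theorem ext_of_iso_left [HasExt.{u} X.Modules] {A B M : X.Modules} (e : A ≅ B) (i : ℕ)
    (h : Subsingleton (Ext B M i)) : Subsingleton (Ext A M i) := by
  refine subsingleton_of_forall_eq 0 fun x => ?_
  rw [← Ext.mk₀_id_comp x, ← e.hom_inv_id, ← Ext.mk₀_comp_mk₀, Ext.comp_assoc_of_second_deg_zero,
    @Subsingleton.elim _ h ((Ext.mk₀ e.inv).comp x (zero_add i)) 0, Ext.comp_zero]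

/-- A lift of a map between cokernels. -/
theorem exists_lift [HasExt.{u} X.Modules] {P Q P' Q' : X.Modules} (f : P ⟶ Q) [Mono f] (f' : P' ⟶ Q')
    [Mono f'] (hext : Subsingleton (Ext Q P' 1)) (φ : cokernel f ⟶ cokernel f') :
    ∃ (β : Q ⟶ Q') (γ : P ⟶ P'), γ ≫ f' = f ≫ β ∧ β ≫ cokernel.π f' = cokernel.π f ≫ φ := by
  have hS : (ShortComplex.mk f' (cokernel.π f') (cokernel.condition f')).ShortExact :=
    { exact := ShortComplex.exact_cokernel f' }
  obtain ⟨x, hx⟩ := Ext.covariant_sequence_exact₃ Q hS (Ext.mk₀ (cokernel.π f ≫ φ)) (zero_add 1)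
    (hext.elim _ _)
  obtain ⟨β, rfl⟩ := (Ext.mk₀_bijective Q Q').2 x
  rw [Ext.mk₀_comp_mk₀] at hx
  have hβ : β ≫ cokernel.π f' = cokernel.π f ≫ φ := (Ext.mk₀_bijective _ _).1 hx
  haveI := hS.mono_f
  have h0 : (f ≫ β) ≫ cokernel.π f' = 0 := by rw [Category.assoc, hβ, cokernel.condition_assoc, zero_comp]
  exact ⟨β, hS.exact.lift (f ≫ β) h0, hS.exact.lift_f _ _, hβ⟩

/-- Lifts are unique. -/
theorem eq_zero_of_lift {P' Q Q' : X.Modules} (f' : P' ⟶ Q') [Mono f'] (hhom : ∀ g : Q ⟶ P', g = 0)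
    (β : Q ⟶ Q') (h : β ≫ cokernel.π f' = 0) : β = 0 := by
  have hS : (ShortComplex.mk f' (cokernel.π f') (cokernel.condition f')).ShortExact :=
    { exact := ShortComplex.exact_cokernel f' }
  haveI := hS.mono_f
  have h' : hS.exact.lift β h ≫ f' = β := hS.exact.lift_f _ _
  rw [← h', hhom (hS.exact.lift β h), zero_comp]

/-- Isomorphic cokernels come from one orbit. -/
theorem iso_iff_orbit [HasExt.{u} X.Modules] {P Q : X.Modules} (f f' : P ⟶ Q) [Mono f] [Mono f']
    (hext : Subsingleton (Ext Q P 1)) (hhom : ∀ g : Q ⟶ P, g = 0) :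
    Nonempty (cokernel f ≅ cokernel f') ↔ ∃ (β : Q ≅ Q) (γ : P ≅ P), f ≫ β.hom = γ.hom ≫ f' := by
  refine ⟨fun ⟨e⟩ => ?_, fun ⟨β, γ, h⟩ => ⟨cokernel.mapIso f f' γ β h⟩⟩
  obtain ⟨β, γ, h1, h2⟩ := exists_lift f f' hext e.hom
  obtain ⟨β', γ', h1', h2'⟩ := exists_lift f' f hext e.inv
  have hβ : β ≫ β' = 𝟙 Q := sub_eq_zero.1 (eq_zero_of_lift f hhom _ (by
    rw [Preadditive.sub_comp, Category.assoc, h2', reassoc_of% h2, e.hom_inv_id, Category.comp_id,
      Category.id_comp, sub_self]))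
  have hβ' : β' ≫ β = 𝟙 Q := sub_eq_zero.1 (eq_zero_of_lift f' hhom _ (by
    rw [Preadditive.sub_comp, Category.assoc, h2, reassoc_of% h2', e.inv_hom_id, Category.comp_id,
      Category.id_comp, sub_self]))
  have hγ : γ ≫ γ' = 𝟙 P := by
    rw [← cancel_mono f, Category.assoc, h1', reassoc_of% h1, hβ, Category.comp_id, Category.id_comp]
  have hγ' : γ' ≫ γ = 𝟙 P := by
    rw [← cancel_mono f', Category.assoc, h1, reassoc_of% h1', hβ', Category.comp_id, Category.id_comp]
  exact ⟨⟨β, β', hβ, hβ'⟩, ⟨γ, γ', hγ, hγ'⟩, h1.symm⟩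

variable {k : Type u} [Field k] [X.Over (Spec (CommRingCat.of k))]

theorem finite_end_invertible (hk : Function.Bijective (Coh.toGlobal (X ↘ Spec (CommRingCat.of k))))
    {L L' : X.Modules} (e : CohB1.tensorMod L L' ≅ Coh.structureModule X) :
    Module.Finite k (L ⟶ L) :=
  Module.Finite.of_surjective (LinearMap.toSpanSingleton k (L ⟶ L) (𝟙 L)) fun g => by
    obtain ⟨c, hc⟩ := Groth.L03.VBPn.exists_eq_smul_id hk e g
    exact ⟨c, hc.symm⟩

theorem finite_hom_sigma {N N' : ℕ} {L M : X.Modules} [Module.Finite k (L ⟶ M)] :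
    Module.Finite k ((∐ fun _ : Fin N => L) ⟶ (∐ fun _ : Fin N' => M)) := by
  classical
  let p : Fin N' → ((∐ fun _ : Fin N' => M) ⟶ M) := fun j =>
    Sigma.desc fun l => if l = j then 𝟙 M else 0
  have hsum : ∑ j, p j ≫ Sigma.ι (fun _ : Fin N' => M) j = 𝟙 _ := Sigma.hom_ext _ _ fun l => by
    rw [Preadditive.comp_sum, Category.comp_id, Finset.sum_eq_single l]
    · simp [p]
    · intro j _ hj
      simp [p, Ne.symm hj]
    · exact fun hl => absurd (Finset.mem_univ l) hl
  let Φ : ((∐ fun _ : Fin N => L) ⟶ (∐ fun _ : Fin N' => M)) →ₗ[k] (Fin N → Fin N' → (L ⟶ M)) :=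
    { toFun := fun g i j => Sigma.ι (fun _ : Fin N => L) i ≫ g ≫ p j
      map_add' := fun g g' => by funext i j; simp
      map_smul' := fun c g => by funext i j; simp }
  refine Module.Finite.of_injective Φ fun g g' h => Sigma.hom_ext _ _ fun i => ?_
  calc Sigma.ι _ i ≫ g = ∑ j, Φ g i j ≫ Sigma.ι (fun _ : Fin N' => M) j := by
        conv_lhs => rw [← Category.comp_id g, ← hsum]
        simp [Φ, Preadditive.comp_sum]
    _ = ∑ j, Φ g' i j ≫ Sigma.ι (fun _ : Fin N' => M) j := by rw [h]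
    _ = Sigma.ι _ i ≫ g' := by
        conv_rhs => rw [← Category.comp_id g', ← hsum]
        simp [Φ, Preadditive.comp_sum]

theorem finite_hom_of_iso {A A' B B' : X.Modules} (e : A ≅ A') (e' : B ≅ B') [Module.Finite k (A ⟶ B)] :
    Module.Finite k (A' ⟶ B') :=
  Module.Finite.equiv (Linear.homCongr k e e')

/-- All but finitely many shifts of an endomorphism are isomorphisms. -/
theorem finite_bad {A : X.Modules} [Module.Finite k (A ⟶ A)] (g : A ⟶ A) :
    {c : k | ¬ IsIso (g - c • 𝟙 A)}.Finite := by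
  classical
  let a : CategoryTheory.End A := g
  haveI : Module.Finite k (CategoryTheory.End A) := ‹Module.Finite k (A ⟶ A)›
  have hint : IsIntegral k a := Algebra.IsIntegral.isIntegral a
  refine Set.Finite.subset ((minpoly k a).roots.toFinset.finite_toSet) fun c hc => ?_
  rw [Finset.mem_coe, Multiset.mem_toFinset, Polynomial.mem_roots (minpoly.ne_zero hint)]
  by_contra hr
  refine hc ?_
  have hd : Polynomial.X - Polynomial.C c ∣ minpoly k a - Polynomial.C ((minpoly k a).eval c) :=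
    Polynomial.dvd_iff_isRoot.2 (by simp)
  obtain ⟨q, hq⟩ := hd
  have h2 : a * Polynomial.aeval a q - algebraMap k (CategoryTheory.End A) c * Polynomial.aeval a q =
      - algebraMap k (CategoryTheory.End A) ((minpoly k a).eval c) := by
    have := congrArg (Polynomial.aeval a) hq
    simpa [sub_mul] using this.symm
  have hu : IsUnit (a - algebraMap k (CategoryTheory.End A) c) := by
    have hr' : (minpoly k a).eval c ≠ 0 := hr
    have hcomm : Commute (a - algebraMap k (CategoryTheory.End A) c) (Polynomial.aeval a q) :=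
      (show Commute a (Polynomial.aeval a q) by
        simpa using (Polynomial.commute_X q).map (Polynomial.aeval a)).sub_left (Algebra.commutes c _)
    have hprod : IsUnit ((a - algebraMap k (CategoryTheory.End A) c) * Polynomial.aeval a q) := by
      rw [sub_mul, h2, IsUnit.neg_iff]
      exact (IsUnit.mk0 _ hr').map _
    exact (hcomm.isUnit_mul_iff.1 hprod).1
  have he : g - c • 𝟙 A = (a - algebraMap k (CategoryTheory.End A) c : CategoryTheory.End A) := by
    rw [Algebra.algebraMap_eq_smul_one]; rfl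
  rw [he]
  exact (CategoryTheory.isUnit_iff_isIso _).1 hu

/-- The stabiliser is scalar, so the cokernel is simple. -/
theorem exists_smul [HasExt.{u} X.Modules] [IsAlgClosed k] {P Q : X.Modules} (f : P ⟶ Q) [Mono f]
    [Module.Finite k (P ⟶ P)] [Module.Finite k (Q ⟶ Q)] (hext : Subsingleton (Ext Q P 1))
    (hstab : ∀ (β : Q ≅ Q) (γ : P ≅ P), γ.hom ≫ f = f ≫ β.hom → ∃ c : k, β.hom = c • 𝟙 Q)
    (φ : cokernel f ⟶ cokernel f) : ∃ c : k, φ = c • 𝟙 _ := by
  obtain ⟨β, γ, h1, h2⟩ := exists_lift f f hext φ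
  obtain ⟨c₀, hc₀⟩ := ((finite_bad (k := k) β).union (finite_bad (k := k) γ)).exists_notMem
  simp only [Set.mem_union, Set.mem_setOf_eq, not_or, not_not] at hc₀
  haveI := hc₀.1; haveI := hc₀.2
  obtain ⟨c, hc⟩ := hstab (asIso (β - c₀ • 𝟙 Q)) (asIso (γ - c₀ • 𝟙 P)) (by simp [h1])
  refine ⟨c + c₀, (cancel_epi (cokernel.π f)).1 ?_⟩
  have hβ : β = (c + c₀) • 𝟙 Q := by rw [add_smul, ← hc]; simp
  rw [← h2, hβ]
  simp

end Groth.L03.VBPn.CokerSimple
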