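import Groth.Agent.L03.VBPn.LinSub
import Groth.Agent.L22.PDual.ExtSheafHom
import Groth.Agent.L22.Reg.Pn
import Groth.Agent.L12.DefoSh.Conn

/-!
# Endomorphisms of the twisted cotangent sheaf and of null-correlation bundles
-/

set_option autoImplicit false
set_option linter.style.haveILetI false
set_option linter.unusedSectionVars false
set_option backward.isDefEq.respectTransparency false
set_option backward.isDefEq.respectTransparency.types false

universe u

open CategoryTheory CategoryTheory.Limits CategoryTheory.Abelian AlgebraicGeometry TopologicalSpace Opposite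
open Groth.L22.Reg (O' tw')
open Groth.L00.Tensor (tensorRightF tensorIso tensorComm tensorUnitLeft)
open Groth.L22.PDual (isEquivalence_tensorRightF subsingleton_ext_of_twist)

noncomputable section

namespace Groth.L03.VBPn

section Scalar

variable {X : Scheme.{u}} {k : Type u} [Field k] [X.Over (Spec (CommRingCat.of k))]

theorem tensorRightF_map_smul (L M : X.Modules) (c : k) :
    (tensorRightF L).map (c • 𝟙 M) = c • 𝟙 ((tensorRightF L).obj M) := by
  rw [KLin.smul_id, KLin.smul_id]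
  exact (Groth.L12.DefoSh.tensorMap_eq _ _).symm.trans
    (Groth.L12.DefoSh.tf_smulModΓ (Ω := L) M (Coh.toGlobal (X ↘ Spec (CommRingCat.of k)) c))

/-- With constant global functions an endomorphism of an invertible module is a scalar. -/
theorem exists_eq_smul_id (hk : Function.Bijective (Coh.toGlobal (X ↘ Spec (CommRingCat.of k))))
    {L L' : X.Modules} (e : CohB1.tensorMod L L' ≅ Coh.structureModule X) (g : L ⟶ L) :
    ∃ c : k, g = c • 𝟙 L := by
  haveI := isEquivalence_tensorRightF (tensorComm L' L ≪≫ e)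
  let ε : Coh.structureModule X ⟶ Coh.structureModule X := e.inv ≫ (tensorRightF L').map g ≫ e.hom
  obtain ⟨c, hc⟩ := hk.2 (ε.app ⊤ (Groth.L21.RR.oneSec X))
  refine ⟨c, (tensorRightF L').map_injective ?_⟩
  have hε : ε = c • 𝟙 (Coh.structureModule X) := Groth.L21.RR.hom_ext_one (by
    rw [KLin.smul_app_apply, hc]
    show _ = _ • (Groth.L21.RR.oneSec X)
    refine Eq.trans ?_ (congrArg (· • Groth.L21.RR.oneSec X) (Groth.L18.Frame.ro_self (le_top : (⊤ : X.Opens) ≤ ⊤) _).symm)
    exact (mul_one (M := Γ(X, ⊤)) _).symm)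
  rw [tensorRightF_map_smul]
  have h : (tensorRightF L').map g = e.hom ≫ ε ≫ e.inv := by simp [ε]
  rw [h, hε, Linear.smul_comp, Linear.comp_smul, Category.id_comp, Iso.hom_inv_id]
  rfl

theorem toSheaf_map_smul_id (M : X.Modules) (c : k) :
    (SheafOfModules.toSheaf X.ringCatSheaf).map (c • 𝟙 M) =
      Coh.smulAb M (Coh.toGlobal (X ↘ Spec (CommRingCat.of k)) c) := by
  ext U : 3
  refine AddCommGrpCat.hom_ext (AddMonoidHom.ext fun x => ?_)
  exact (KLin.smul_app_apply c (𝟙 M) U.unop x).trans (Coh.smulAb_app M _ U x).symm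

theorem ext_sigma_subsingleton [HasExt.{u} X.Modules] {N : ℕ} (M : Fin N → X.Modules) (Y : X.Modules) (i : ℕ)
    (h : ∀ j, Subsingleton (Ext (M j) Y i)) : Subsingleton (Ext (∐ M) Y i) := by
  classical
  refine subsingleton_of_forall_eq 0 fun x => ?_
  let p : ∀ j, ∐ M ⟶ M j := fun j => Sigma.desc fun l => if hl : l = j then eqToHom (by rw [hl]) else 0
  have hsum : ∑ j, p j ≫ Sigma.ι M j = 𝟙 (∐ M) := Sigma.hom_ext _ _ fun l => by
    rw [Preadditive.comp_sum, Category.comp_id, Finset.sum_eq_single l]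
    · simp [p]
    · intro j _ hj
      simp [p, Ne.symm hj]
    · exact fun hl => absurd (Finset.mem_univ l) hl
  rw [← Ext.mk₀_id_comp x, ← hsum, Ext.mk₀_sum, Ext.sum_comp]
  refine Finset.sum_eq_zero fun j _ => ?_
  rw [← Ext.mk₀_comp_mk₀, Ext.comp_assoc_of_second_deg_zero,
    @Subsingleton.elim _ (h j) ((Ext.mk₀ (Sigma.ι M j)).comp x (zero_add i)) 0, Ext.comp_zero]

end Scalar

variable (n : ℕ) (k : Type u) [Field k]

/-- The kernel of the coordinates, `Ω(1)`. -/
abbrev KP : (CohB1.ProjSpace n k).Modules := kernel (wX n k)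

theorem toGlobal_bij : Function.Bijective (Coh.toGlobal (CohB1.ProjSpace n k ↘ Spec (CommRingCat.of k))) :=
  Groth.L16.ProjSpace.toGlobal_bijective (n := n) (R := k)

theorem subsingleton_h0_KP : Subsingleton (Coh.HH (CohB1.ProjSpace n k) (KP n k) 0) := by
  obtain ⟨-, ⟨e⟩⟩ := exists_omega_iso n k
  exact Groth.L22.Reg.subsingleton_iso e 0 (subsingleton_h0_omega_one n k)

theorem nonempty_inv_twist (a : ℤ) :
    Nonempty (CohB1.tensorMod (O' n k a) (O' n k (-a)) ≅ Coh.structureModule (CohB1.ProjSpace n k)) := by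
  obtain ⟨x⟩ := Groth.L22.Reg.nonempty_O_add (n := n) (R := k) (add_neg_cancel a)
  obtain ⟨y⟩ := Groth.L22.Reg.nonempty_O_zero n k
  exact ⟨x ≪≫ y⟩

/-- Endomorphisms of `Ω(1)` are scalars. -/
theorem exists_smul_id_KP (f : KP n k ⟶ KP n k) : ∃ c : k, f = c • 𝟙 _ := by
  haveI := Groth.L00.Tensor.grothendieckAbelian_modules (CohB1.ProjSpace n k)
  haveI : HasExt.{u} (CohB1.ProjSpace n k).Modules := inferInstance
  obtain ⟨hepi, -⟩ := exists_omega_iso n k
  haveI := hepi
  let w := wX n k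
  let F := FlatMod.freeMod (CohB1.ProjSpace n k) (n + 1)
  let S := ShortComplex.mk (kernel.ι w) w (kernel.condition w)
  have hS : S.ShortExact :=
    { exact := ShortComplex.exact_kernel w
      mono_f := inferInstanceAs (Mono (kernel.ι w))
      epi_g := inferInstanceAs (Epi w) }
  obtain ⟨e1⟩ := nonempty_inv_twist n k ((1 : ℕ) : ℤ)
  -- maps to `O` extend
  haveI hE : Subsingleton (Ext (L1 n k) (Coh.structureModule (CohB1.ProjSpace n k)) 1) :=
    subsingleton_ext_of_twist e1 0 _ (Groth.L22.Reg.subsingleton_iso (tensorUnitLeft _).symm 1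
      (Groth.L16.ProjSpace.subsingleton_HH_twist n k (-((1 : ℕ) : ℤ)) 1 (by omega) (by omega)))
  have hext : ∀ j, ∃ G : F ⟶ Coh.structureModule _,
      kernel.ι w ≫ G = (f ≫ kernel.ι w) ≫
        (Sigma.desc fun l => if l = j then 𝟙 _ else 0 : F ⟶ Coh.structureModule _) := fun j => by
    obtain ⟨x, hx⟩ := Ext.contravariant_sequence_exact₁ hS (Coh.structureModule _)
      (Ext.mk₀ ((f ≫ kernel.ι w) ≫ (Sigma.desc fun l => if l = j then 𝟙 _ else 0 : F ⟶ Coh.structureModule _)))
      (add_zero 1) (Subsingleton.elim _ _)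
    obtain ⟨G, rfl⟩ := (Ext.mk₀_bijective _ _).2 x
    rw [Ext.mk₀_comp_mk₀] at hx
    exact ⟨G, (Ext.mk₀_bijective _ _).1 hx⟩
  choose G hG using hext
  let G' : F ⟶ F := ∑ j, G j ≫ Sigma.ι (fun _ : Fin (n + 1) => Coh.structureModule (CohB1.ProjSpace n k)) j
  have hsum : ∑ j, (Sigma.desc fun l => if l = j then 𝟙 _ else 0 : F ⟶ Coh.structureModule _) ≫
      Sigma.ι (fun _ : Fin (n + 1) => Coh.structureModule (CohB1.ProjSpace n k)) j = 𝟙 F :=
    Sigma.hom_ext _ _ fun l => by
      rw [Preadditive.comp_sum, Category.comp_id, Finset.sum_eq_single l]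
      · simp
      · intro j _ hj
        simp [Ne.symm hj]
      · exact fun hl => absurd (Finset.mem_univ l) hl
  have hG' : kernel.ι w ≫ G' = f ≫ kernel.ι w := by
    rw [Preadditive.comp_sum]
    simp only [← Category.assoc, hG]
    simp only [Category.assoc, ← Preadditive.comp_sum, hsum]
    erw [Category.comp_id]
  -- the induced endomorphism of `O(1)`
  obtain ⟨g, hg⟩ : ∃ g : L1 n k ⟶ L1 n k, w ≫ g = G' ≫ w :=
    ⟨hS.gIsCokernel.desc (CokernelCofork.ofπ (G' ≫ w) (by
        show kernel.ι w ≫ G' ≫ w = 0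
        rw [reassoc_of% hG', kernel.condition, comp_zero])),
      hS.gIsCokernel.fac _ WalkingParallelPair.one⟩
  obtain ⟨c, hc⟩ := exists_eq_smul_id (toGlobal_bij n k) e1 g
  have h0 : (G' - c • 𝟙 F) ≫ w = 0 := by
    rw [Preadditive.sub_comp, ← hg, hc, Linear.smul_comp, Linear.comp_smul]
    erw [Category.comp_id]
    exact sub_self _
  have h1 : kernel.lift w (G' - c • 𝟙 F) h0 = 0 := Sigma.hom_ext _ _ fun j => by
    rw [comp_zero]
    haveI := subsingleton_h0_KP n k
    exact Groth.L21.RR.hom_ext_one ((Groth.L21.RR.e0 (KP n k)).symm.injective (Subsingleton.elim _ _))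
  have h2 : G' = c • 𝟙 F := by
    rw [← sub_eq_zero, ← kernel.lift_ι w (G' - c • 𝟙 F) h0, h1, zero_comp]
  refine ⟨c, (cancel_mono (kernel.ι w)).1 ?_⟩
  rw [← hG', h2, Linear.comp_smul, Category.comp_id, Linear.smul_comp, Category.id_comp]

/-- Maps to a quotient of `Ω(1)` by `O(-1)` lift to `Ω(1)`. -/
theorem exists_lift_KP {M : (CohB1.ProjSpace n k).Modules} {u : O' n k (-1) ⟶ KP n k} {π : KP n k ⟶ M}
    (w0 : u ≫ π = 0) (hS : (ShortComplex.mk u π w0).ShortExact) (ψ : KP n k ⟶ M) :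
    ∃ c : k, ψ = c • π := by
  haveI := Groth.L00.Tensor.grothendieckAbelian_modules (CohB1.ProjSpace n k)
  haveI : HasExt.{u} (CohB1.ProjSpace n k).Modules := inferInstance
  obtain ⟨hepi, -⟩ := exists_omega_iso n k
  haveI := hepi
  let w := wX n k
  let T := ShortComplex.mk (kernel.ι w) w (kernel.condition w)
  have hT : T.ShortExact :=
    { exact := ShortComplex.exact_kernel w
      mono_f := inferInstanceAs (Mono (kernel.ι w))
      epi_g := inferInstanceAs (Epi w) }
  obtain ⟨e1⟩ := nonempty_inv_twist n k ((1 : ℕ) : ℤ)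
  haveI : Subsingleton (Ext (L1 n k) (O' n k (-1)) 2) := by
    refine subsingleton_ext_of_twist e1 1 _ ?_
    obtain ⟨a⟩ := Groth.L22.Reg.nonempty_O_add (n := n) (R := k) (show (-1 : ℤ) + -((1 : ℕ) : ℤ) = -2 by norm_num)
    exact Groth.L22.Reg.subsingleton_iso a.symm 2
      (Groth.L16.ProjSpace.subsingleton_HH_twist n k (-2) 2 (by omega) (by omega))
  haveI : Subsingleton (Ext (FlatMod.freeMod (CohB1.ProjSpace n k) (n + 1)) (O' n k (-1)) 1) :=
    ext_sigma_subsingleton _ _ _ fun _ => subsingleton_ext_of_twist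
      (tensorUnitLeft (Coh.structureModule (CohB1.ProjSpace n k))) 0 _
      (Groth.L22.Reg.subsingleton_iso (Groth.L00.Tensor.tensorUnitRight _).symm 1
        (Groth.L16.ProjSpace.subsingleton_HH_twist n k (-1) 1 (by omega) (by omega)))
  haveI : Subsingleton (Ext (KP n k) (O' n k (-1)) 1) := subsingleton_of_forall_eq 0 fun x => by
    obtain ⟨y, rfl⟩ := Ext.contravariant_sequence_exact₁ hT (O' n k (-1)) x (n₁ := 2) rfl
      (Subsingleton.elim (α := Ext (L1 n k) (O' n k (-1)) 2) _ _)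
    rw [Subsingleton.elim (α := Ext (FlatMod.freeMod (CohB1.ProjSpace n k) (n + 1)) (O' n k (-1)) 1) y 0, Ext.comp_zero]
  obtain ⟨x, hx⟩ := Ext.covariant_sequence_exact₃ (KP n k) hS (Ext.mk₀ ψ) (add_comm 0 1)
    (Subsingleton.elim (α := Ext (KP n k) (O' n k (-1)) 1) _ _)
  obtain ⟨h, rfl⟩ := (Ext.mk₀_bijective _ _).2 x
  rw [Ext.mk₀_comp_mk₀] at hx
  have hh : h ≫ π = ψ := (Ext.mk₀_bijective _ _).1 hx
  obtain ⟨c, rfl⟩ := exists_smul_id_KP n k h
  exact ⟨c, by rw [← hh, Linear.smul_comp, Category.id_comp]⟩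

end Groth.L03.VBPn
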