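import Groth.Agent.L03.VBPn.PnEuler
import Groth.Agent.L16.ProjSpace.CohTwist
import Groth.Agent.L21.RR.Sections
import Groth.Agent.L29.LocFree

/-!
# The twisted cotangent sheaf of projective space
-/

set_option autoImplicit false
set_option linter.style.haveILetI false
set_option linter.unusedSectionVars false
set_option backward.isDefEq.respectTransparency false
set_option backward.isDefEq.respectTransparency.types false

universe u

open CategoryTheory CategoryTheory.Limits AlgebraicGeometry TopologicalSpace Opposite MvPolynomial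
open Groth.L18.Frame (rs ro rs_rs rs_smul rs_self pull)
open Groth.L16.ProjSpace (xsec Xd polyToSection polyToSection_injective polyToSection_apply toGlobal_bijective
  toGlobal_apply_val)
open Groth.L19.ProjBdl (lc lc_coord coord IsBasisOn app_lc injective_app_of_mono app_ι_kernel)
open Groth.L22.Reg (O' tw')

noncomputable section

namespace Groth.L03.VBPn

variable (n : ℕ) (k : Type u) [Field k]

/-- The constants. -/
abbrev cst (r : k) : Γ(CohB1.ProjSpace n k, ⊤) := Coh.toGlobal (CohB1.ProjSpace.toSpec n k) r

theorem smul_polyToSection (r : k) (p : CohB1.polyGrading n k 1) :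
    cst n k r • (show Γ(L1 n k, ⊤) from polyToSection n k 1 p) =
      (show Γ(L1 n k, ⊤) from polyToSection n k 1 (r • p)) := by
  refine Subtype.ext (funext fun x => Subtype.ext ?_)
  refine (Twist.coe_smul_val _ _ _ _).trans ?_
  erw [toGlobal_apply_val, Localization.mk_mul]
  refine Eq.trans ?_ (polyToSection_apply 1 (r • p) x).symm
  rw [Localization.mk_eq_mk_iff, Localization.r_iff_exists]
  exact ⟨1, by simp [MvPolynomial.smul_eq_C_mul]⟩

/-- The sections as forms. -/
def formsToSec : CohB1.polyGrading n k 1 →+ Γ(L1 n k, ⊤) :=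
  AddMonoidHom.mk' (fun p => polyToSection n k 1 p) fun _ _ =>
    Subtype.ext (funext fun _ => Subtype.ext (Localization.add_mk_self _ _ _).symm)

/-- The coordinates are linearly independent sections. -/
theorem eq_zero_of_sum_xsec (r : Fin (n + 1) → k)
    (h : ∑ i, cst n k (r i) • (show Γ(L1 n k, ⊤) from xsec n k i) = 0) : r = 0 := by
  have h1 : formsToSec n k (∑ i, r i • Xd n k i) = formsToSec n k 0 := by
    rw [map_sum, map_zero, ← h]
    exact Finset.sum_congr rfl fun i _ => (smul_polyToSection n k (r i) (Xd n k i)).symm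
  have h2 := congrArg Subtype.val (polyToSection_injective 1 h1)
  rw [AddSubmonoidClass.coe_finset_sum, ZeroMemClass.coe_zero] at h2
  funext j
  have h3 := congrArg (MvPolynomial.coeff (Finsupp.single j 1)) h2
  rw [MvPolynomial.coeff_sum, MvPolynomial.coeff_zero, Finset.sum_eq_single j] at h3
  · simpa [Xd] using h3
  · intro i _ hi
    have : ¬ Finsupp.single i 1 = Finsupp.single j 1 := fun e => hi ((Finsupp.single_left_inj one_ne_zero).1 e)
    simp [Xd, MvPolynomial.coeff_X', this]
  · exact fun hj => absurd (Finset.mem_univ j) hj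

/-- The twisted cotangent sheaf has no sections. -/
theorem subsingleton_h0_omega_one :
    Subsingleton (Coh.HH (CohB1.ProjSpace n k)
      (CohB1.tensorMod (Omega.sheaf (CohB1.ProjSpace.toSpec n k)) (L1 n k)) 0) := by
  obtain ⟨e⟩ := nonempty_kernel_iso n k
  refine Groth.L22.Reg.subsingleton_iso e.symm 0 ?_
  let u := eulerU n k
  refine @Equiv.subsingleton _ _ (Groth.L21.RR.e0 (kernel u)).toEquiv (subsingleton_of_forall_eq 0 fun s => ?_)
  let p := CohB1.ProjSpace.toSpec n k
  have hb := (isBasisOn_b₀ n k).pullback p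
  let c := coord hb (le_refl _) ((kernel.ι u).app (⊤ : (CohB1.ProjSpace n k).Opens) s)
  choose r hr using fun i => (toGlobal_bijective (n := n) (R := k)).2 (c i)
  have h0 : r = 0 := by
    refine eq_zero_of_sum_xsec n k r ?_
    refine Eq.trans ?_ (app_ι_kernel u ⊤ s)
    conv_rhs => rw [← lc_coord hb (le_refl _) ((kernel.ι u).app (⊤ : (CohB1.ProjSpace n k).Opens) s)]
    rw [app_lc]
    refine Finset.sum_congr rfl fun i _ => ?_
    exact congrArg₂ (fun (a : Γ(CohB1.ProjSpace n k, ⊤)) (z : Γ(L1 n k, ⊤)) => a • z) (hr i)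
      ((sec_eq n k i).symm.trans (rs_self _ _ _).symm)
  have hc : c = 0 := funext fun i => by
    rw [← hr i, h0]
    exact map_zero _
  refine injective_app_of_mono (kernel.ι u) ⊤ ?_
  rw [← lc_coord hb (le_refl _) ((kernel.ι u).app (⊤ : (CohB1.ProjSpace n k).Opens) s)]
  show lc _ _ _ c = _
  rw [hc, map_zero]
  exact Finset.sum_eq_zero fun i _ => zero_smul _ _

end Groth.L03.VBPn
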