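import Groth.Agent.L19.ProjBdl.Euler

/-!
# The Euler sequence without a universal property
-/

set_option autoImplicit false
set_option linter.unusedVariables false
set_option linter.style.haveILetI false
set_option backward.isDefEq.respectTransparency.types false
set_option backward.isDefEq.respectTransparency false

universe u

open CategoryTheory CategoryTheory.Limits AlgebraicGeometry TopologicalSpace Opposite

noncomputable section

namespace Groth.L03.EulerKer

open Groth.L19.ProjBdl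

open Groth.L18.Frame (rs ro rs_rs ro_ro rs_smul ro_self rs_self IsFrame pull pull_rs pull_smul)
open Groth.L18.GenLoc (tens tens_rs tens_smul_left tens_smul_right)
open Groth.L19.OmegaSh (der_map der_mul der_appLE)

variable {S P : Scheme.{u}} {p : P ⟶ S} {F : S.Modules} {O1 : P.Modules}
  {u : (Scheme.Modules.pullback p).obj F ⟶ O1} {Ω : P.Modules} (d : _root_.OmegaSh.Der p Ω)
  {V : S.Opens} {n : ℕ} {b : Fin n → Γ(F, V)}

theorem sum_smul_der' (hb : IsBasisOn F V b) {W : P.Opens} {l : Fin n}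
    (hW : W ≤ locus p u b l) (c : Fin n → Γ(P, W)) (hc : ∑ i, c i * ro hW (crd p u b l i) = 0) :
    ∑ i, ro hW (crd p u b l i) • d.app W (c i) = -∑ i, c i • d.app W (ro hW (crd p u b l i)) := by
  rw [eq_neg_iff_add_eq_zero, ← Finset.sum_add_distrib]
  refine Eq.trans ?_ ((congrArg (d.app W) hc).trans (map_zero _))
  rw [map_sum]
  refine Finset.sum_congr rfl fun i _ => ?_
  rw [der_mul, add_comm]

/-- On a locus the map to `Ω ⊗ O(1)` is bijective on the kernel. -/
theorem bijective_val' (hb : IsBasisOn F V b) {l : Fin n} {W : P.Opens} (hW : W ≤ locus p u b l)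
    {m : ℕ} (σ : Fin m ≃ {i : Fin n // i ≠ l})
    (hΩ : IsBasisOn Ω (locus p u b l) fun k => d.app (locus p u b l) (crd p u b l (σ k).1)) :
    Function.Bijective fun k : Γ(kernel u, W) =>
      val u d hb (hW.trans (locus_le p u b l)) ((kernel.ι u).app W k) := by
  classical
  have hWV := hW.trans (locus_le p u b l)
  let bΩ := fun k => d.app (locus p u b l) (crd p u b l (σ k).1)
  have hsplit : ∀ {M : Type u} [AddCommMonoid M] (f : Fin n → M), ∑ i, f i = f l + ∑ k, f (σ k).1 := by
    intro M _ f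
    rw [← Finset.add_sum_erase _ _ (Finset.mem_univ l)]
    congr 1
    rw [Equiv.sum_comp σ (fun x : {i : Fin n // i ≠ l} => f x.1)]
    exact Finset.sum_subtype _ (fun x => by simp) f
  have hformula : ∀ k : Γ(kernel u, W), val u d hb hWV ((kernel.ι u).app W k) =
      tens Ω O1 W (-lc Ω bΩ hW fun j => coord (hb.pullback p) hWV ((kernel.ι u).app W k) (σ j).1)
        (rs O1 hWV (sec p u b l)) := by
    intro k
    set c := coord (hb.pullback p) hWV ((kernel.ι u).app W k)
    have h1 : val u d hb hWV ((kernel.ι u).app W k) =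
        tens Ω O1 W (∑ i, ro hW (crd p u b l i) • d.app W (c i)) (rs O1 hWV (sec p u b l)) := by
      rw [tens_sum_left]
      refine Finset.sum_congr rfl fun i _ => ?_
      rw [tens_smul_left, ← tens_smul_right]
      refine congrArg (tens Ω O1 W _) ?_
      have h := congrArg (rs O1 hW) (crd_smul p u b l i)
      rw [rs_smul, rs_rs, rs_rs] at h
      exact h.symm
    rw [h1, sum_smul_der' d hb hW c (sum_eq_zero_of_kernel hb hW k), hsplit, der_crd_self, smul_zero,
      zero_add]
    refine congrArg (fun z => tens Ω O1 W (-z) (rs O1 hWV (sec p u b l))) ?_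
    exact Finset.sum_congr rfl fun j _ => congrArg (_ • ·) (der_map d hW _)
  have hcoord : Function.Bijective fun k : Γ(kernel u, W) =>
      fun j => coord (hb.pullback p) hWV ((kernel.ι u).app W k) (σ j).1 := by
    refine ⟨fun k k' h => injective_app_of_mono (kernel.ι u) W ?_, fun c' => ?_⟩
    · rw [← lc_coord (hb.pullback p) hWV ((kernel.ι u).app W k), ← lc_coord (hb.pullback p) hWV ((kernel.ι u).app W k')]
      refine congrArg _ (funext fun i => ?_)
      by_cases hi : i = l
      · subst hi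
        have hk := sum_eq_zero_of_kernel hb hW k
        have hk' := sum_eq_zero_of_kernel hb hW k'
        rw [hsplit, crd_self, show ro hW (1 : Γ(P, locus p u b i)) = 1 from map_one _, mul_one] at hk hk'
        rw [eq_neg_of_add_eq_zero_left hk, eq_neg_of_add_eq_zero_left hk']
        exact congrArg _ (Finset.sum_congr rfl fun j _ => congrArg (· * _) (congrFun h j))
      · simpa using congrFun h (σ.symm ⟨i, hi⟩)
    · let c : Fin n → Γ(P, W) := fun i =>
        if hi : i = l then -∑ j, c' j * ro hW (crd p u b l (σ j).1) else c' (σ.symm ⟨i, hi⟩)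
      have hcl : c l = -∑ j, c' j * ro hW (crd p u b l (σ j).1) := dif_pos rfl
      have hcj : ∀ j, c (σ j).1 = c' j := fun j => by
        simp only [c, dif_neg (σ j).2, Subtype.coe_eta, Equiv.symm_apply_apply]
      have hu0 : u.app W (lc _ (fun i => pull p F V (b i)) hWV c) = 0 := by
        rw [u_eq_locus hb hW, hsplit, crd_self, show ro hW (1 : Γ(P, locus p u b l)) = 1 from map_one _,
          mul_one, hcl]
        simp only [hcj, neg_add_cancel, zero_smul]
      obtain ⟨k, hk⟩ := exists_kernel_app u W hu0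
      refine ⟨k, funext fun j => ?_⟩
      show coord (hb.pullback p) hWV ((kernel.ι u).app W k) (σ j).1 = c' j
      rw [hk, coord_eq (hb.pullback p) hWV rfl, hcj]
  have hτ : IsFrame O1 W (rs O1 hWV (sec p u b l)) := by
    have := (isFrame_locus p u b l).mono hW
    rwa [rs_rs] at this
  rw [show (fun k : Γ(kernel u, W) => val u d hb (hW.trans (locus_le p u b l)) ((kernel.ι u).app W k)) =
      (fun w => tens Ω O1 W w (rs O1 hWV (sec p u b l))) ∘ (fun w => -w) ∘ lc Ω bΩ hW ∘
        fun k : Γ(kernel u, W) => fun j => coord (hb.pullback p) hWV ((kernel.ι u).app W k) (σ j).1 from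
    funext hformula]
  refine Function.Bijective.comp ?_ (neg_bijective.comp ((hΩ W hW).comp hcoord))
  have h2 := bijective_tens_frame (M := Ω) hτ (le_refl W)
  rwa [rs_self] at h2


/-- The Euler sequence, from bases of differentials on the loci of the coordinates. -/
theorem nonempty_iso_kernel' (hF : FlatMod.IsFinLocFree F) {V₀ : S.Opens} {N : ℕ} {b₀ : Fin N → Γ(F, V₀)}
    (hb₀ : IsBasisOn F V₀ b₀) (hcov : ∀ x : P, ∃ l, x ∈ locus p u b₀ l)
    (hdiff : ∀ l, ∃ (m : ℕ) (σ : Fin m ≃ {i : Fin N // i ≠ l}),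
      IsBasisOn Ω (locus p u b₀ l) fun k => d.app (locus p u b₀ l) (crd p u b₀ l (σ k).1)) : Nonempty (CohB1.tensorMod Ω O1 ≅ kernel u) := by
  classical
  let K := kernel u
  let T := CohB1.tensorMod Ω O1
  let Pr : P.affineOpens → Prop := fun U =>
    ∃ (V : S.Opens) (n : ℕ) (b : Fin n → Γ(F, V)) (_ : IsBasisOn F V b), U.1 ≤ p ⁻¹ᵁ V
  have hPr : ∀ (x : P) (O : P.Opens), x ∈ O → ∃ U, Pr U ∧ x ∈ U.1 ∧ U.1 ≤ O := fun x O hx => by
    obtain ⟨V, n, b, -, hxV, -, hb⟩ := exists_basisOn hF (p x) ⊤ trivial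
    obtain ⟨_, ⟨U, hU, rfl⟩, hxU, hUO⟩ :=
      P.isBasis_affineOpens.exists_subset_of_mem_open (show x ∈ O ⊓ p ⁻¹ᵁ V from ⟨hx, hxV⟩) (O ⊓ p ⁻¹ᵁ V).2
    exact ⟨⟨U, hU⟩, ⟨V, n, b, hb, fun y hy => (hUO hy).2⟩, hxU, fun y hy => (hUO hy).1⟩
  choose Vc nc bc hbc hle using fun (U : P.affineOpens) (h : Pr U) => h
  let m : ∀ (Z : P.Opens) (_ : Γ(K, Z)) (U : P.affineOpens), Pr U → U.1 ≤ Z → Γ(T, U.1) :=
    fun Z k U h hZ => val u d (hbc U h) (hle U h) ((kernel.ι u).app U.1 (rs K hZ k))
  have hm : ∀ (Z : P.Opens) (k : Γ(K, Z)), ∃! t : Γ(T, Z), ∀ (U : P.affineOpens) (h : Pr U) (hZ : U.1 ≤ Z),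
      rs T hZ t = m Z k U h hZ := fun Z k =>
    Groth.L19.OmegaSh.existsUnique_glue T Pr hPr Z (m Z k) fun U U' h h' hZ hZ' hUU' => by
      show rs T hUU' (val u d (hbc U h) (hle U h) ((kernel.ι u).app U.1 (rs K hZ k))) = _
      rw [← val_rs, ← app_rs, rs_rs]
      exact val_indep d _ _ _ _ _
  choose φf hφf hφu using hm
  have key : ∀ {Z : P.Opens} (k : Γ(K, Z)) {V : S.Opens} {n : ℕ} {b : Fin n → Γ(F, V)} (hb : IsBasisOn F V b)
      (hZ : Z ≤ p ⁻¹ᵁ V), φf Z k = val u d hb hZ ((kernel.ι u).app Z k) := fun {Z} k {V n b} hb hZ =>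
    (hφu Z k _ fun U h hUZ => by
      rw [← val_rs, ← app_rs]
      exact val_indep d _ _ _ _ _).symm
  have hadd : ∀ Z (k k' : Γ(K, Z)), φf Z (k + k') = φf Z k + φf Z k' := fun Z k k' =>
    (hφu Z (k + k') _ fun U h hUZ => by
      refine (map_add _ _ _).trans ?_
      show rs T hUZ (φf Z k) + rs T hUZ (φf Z k') = _
      rw [hφf Z k U h hUZ, hφf Z k' U h hUZ]
      simp only [m]
      rw [← val_add, ← map_add]
      exact congrArg (fun z => val u d (hbc U h) (hle U h) ((kernel.ι u).app U.1 z)) (map_add _ _ _).symm).symm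
  have hsmul : ∀ Z (r : Γ(P, Z)) (k : Γ(K, Z)), φf Z (r • k) = r • φf Z k := fun Z r k =>
    (hφu Z (r • k) _ fun U h hUZ => by
      rw [rs_smul, hφf Z k U h hUZ]
      simp only [m]
      rw [rs_smul, Scheme.Modules.Hom.app_smul]
      exact (val_smul d _ _ _ _ (app_ι_kernel u _ _)).symm).symm
  have hnat : ∀ {Z Z' : P.Opens} (h : Z' ≤ Z) (k : Γ(K, Z)), φf Z' (rs K h k) = rs T h (φf Z k) := fun {Z Z'} h k =>
    (hφu Z' (rs K h k) _ fun U hU hUZ => by
      rw [rs_rs, hφf Z k U hU (hUZ.trans h)]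
      simp only [m, rs_rs]).symm
  let φ : K ⟶ T := ⟨PresheafOfModules.homMk
    { app := fun Z => AddCommGrpCat.ofHom (AddMonoidHom.mk' (fun (k : Γ(K, Z.unop)) => (φf Z.unop k : Γ(T, Z.unop)))
        (hadd Z.unop))
      naturality := fun {Z₁ Z₂} i => by
        ext k
        exact hnat i.unop.le k }
    fun Z r k => hsmul Z.unop r k⟩
  have happ : ∀ Z (k : Γ(K, Z)), φ.app Z k = φf Z k := fun Z k => rfl
  let J := {W : P.Opens // ∀ W' : P.Opens, W' ≤ W → Function.Bijective (φ.app W')}
  haveI : IsIso φ := Groth.L18.IsoCover.isIso_of_bijective φ (fun k : J => k.1) (fun x => by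
    obtain ⟨l, hl⟩ := hcov x
    refine ⟨⟨locus p u b₀ l, fun W' hW' => ?_⟩, hl⟩
    obtain ⟨m, σ, hσ⟩ := hdiff l
    have e : (fun k : Γ(K, W') => φ.app W' k) =
        fun k => val u d hb₀ (hW'.trans (locus_le p u b₀ l)) ((kernel.ι u).app W' k) :=
      funext fun k => (happ W' k).trans (key k hb₀ _)
    show Function.Bijective fun k : Γ(K, W') => φ.app W' k
    rw [e]
    exact bijective_val' d hb₀ hW' σ hσ) fun k W' hW' => k.2 W' hW'
  exact ⟨(asIso φ).symm⟩

end Groth.L03.EulerKer
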