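import Groth.Agent.L18.Grass.GrassProper
import Groth.Agent.L17.BC.Efface
import Groth.Agent.L18.KernelTensorGG
import Groth.Agent.L18.IsoCover

/-!
# Maps of free modules given by scalar matrices
-/

set_option autoImplicit false
set_option linter.style.haveILetI false
set_option linter.unusedSectionVars false
set_option backward.isDefEq.respectTransparency false
set_option backward.isDefEq.respectTransparency.types false

universe u

open CategoryTheory CategoryTheory.Limits AlgebraicGeometry TopologicalSpace Opposite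
open Groth.L18.Frame (rs rs_self)
open Groth.L18.QuotBasis (freeHom uvec freeHom_uvec hom_ext_free)
open Groth.L19.ProjBdl (IsBasisOn lc app_lc)

noncomputable section

namespace Groth.L03.VBPn

/-- The kernel of a map pulled back along a projection. -/
theorem nonempty_kernel_fst {C : Type*} [Category C] [Abelian C] {A B L : C} (w : A ⟶ L) :
    Nonempty (kernel (biprod.fst ≫ w : A ⊞ B ⟶ L) ≅ kernel w ⊞ B) := by
  refine ⟨{ hom := biprod.lift (kernel.lift w (kernel.ι _ ≫ biprod.fst) (by rw [Category.assoc, kernel.condition]))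
              (kernel.ι _ ≫ biprod.snd)
            inv := kernel.lift _ (biprod.map (kernel.ι w) (𝟙 B)) (by simp)
            hom_inv_id := ?_
            inv_hom_id := ?_ }⟩
  · refine equalizer.hom_ext ?_
    apply biprod.hom_ext <;> simp
  · apply biprod.hom_ext
    · refine equalizer.hom_ext ?_
      simp
    · simp

variable {X : Scheme.{u}}

/-- A basis of global sections makes a module free. -/
theorem isIso_freeHom {M : X.Modules} {N : ℕ} {b : Fin N → Γ(M, ⊤)} (hb : IsBasisOn M ⊤ b) :
    IsIso (freeHom M b) := by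
  refine Groth.L18.IsoCover.isIso_of_bijective (freeHom M b) (fun _ : Unit => (⊤ : X.Opens))
    (fun _ => ⟨(), trivial⟩) fun _ V hV => ?_
  have h := Groth.L18.GrassProper.isBasisOn_uvec X N ⊤ V hV
  refine (Function.Bijective.of_comp_iff _ h).1 ?_
  refine Eq.mp (congrArg Function.Bijective (funext fun c => ?_)) (hb V hV)
  show _ = (freeHom M b).app V (lc _ _ hV c)
  rw [app_lc]
  refine congrArg (fun z : Fin N → Γ(M, ⊤) => lc M z hV c) (funext fun i => ?_)
  rw [rs_self]
  exact (freeHom_uvec b i).symm

variable {k : Type u} [Field k] (c : k →+* Γ(X, ⊤))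

/-- The map of free modules given by a linear map. -/
def linHom {a b : ℕ} (φ : (Fin a → k) →ₗ[k] (Fin b → k)) : FlatMod.freeMod X a ⟶ FlatMod.freeMod X b :=
  freeHom _ fun j => ∑ l, c (φ (Pi.single j 1) l) • uvec X b l

theorem app_sum_smul {M N : X.Modules} (F : M ⟶ N) {b : ℕ} (r : Fin b → Γ(X, ⊤)) (v : Fin b → Γ(M, ⊤)) :
    F.app ⊤ (∑ l, r l • v l) = ∑ l, r l • F.app ⊤ (v l) := by
  rw [map_sum]
  exact Finset.sum_congr rfl fun l _ => Scheme.Modules.Hom.app_smul _ _ _

theorem linHom_uvec {a b : ℕ} (φ : (Fin a → k) →ₗ[k] (Fin b → k)) (j : Fin a) :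
    (linHom c φ).app ⊤ (uvec X a j) = ∑ l, c (φ (Pi.single j 1) l) • uvec X b l := freeHom_uvec _ j

theorem linHom_comp {a b d : ℕ} (φ : (Fin a → k) →ₗ[k] (Fin b → k)) (ψ : (Fin b → k) →ₗ[k] (Fin d → k)) :
    linHom c φ ≫ linHom c ψ = linHom c (ψ ∘ₗ φ) := by
  classical
  refine hom_ext_free fun j => ?_
  show (linHom c ψ).app ⊤ ((linHom c φ).app ⊤ (uvec X a j)) = _
  rw [linHom_uvec, linHom_uvec, app_sum_smul]
  simp only [linHom_uvec, Finset.smul_sum, smul_smul]
  rw [Finset.sum_comm]
  refine Finset.sum_congr rfl fun l _ => ?_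
  rw [← Finset.sum_smul]
  refine congrArg (· • _) ?_
  simp only [← map_mul, ← map_sum, LinearMap.comp_apply]
  refine congrArg c ?_
  conv_rhs => rw [pi_eq_sum_univ' (φ (Pi.single j 1)), map_sum, Finset.sum_apply]
  refine Finset.sum_congr rfl fun i _ => ?_
  rw [map_smul, Pi.smul_apply, smul_eq_mul]

theorem linHom_id (a : ℕ) : linHom c (LinearMap.id : (Fin a → k) →ₗ[k] _) = 𝟙 (FlatMod.freeMod X a) := by
  classical
  refine hom_ext_free fun j => ?_
  rw [linHom_uvec, Finset.sum_eq_single j]
  · rw [LinearMap.id_apply, Pi.single_eq_same, map_one, one_smul]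
    rfl
  · intro l _ hl
    rw [LinearMap.id_apply, Pi.single_eq_of_ne hl, map_zero, zero_smul]
  · exact fun h => absurd (Finset.mem_univ j) h

theorem linHom_zero (a b : ℕ) : linHom c (0 : (Fin a → k) →ₗ[k] (Fin b → k)) = 0 := by
  refine hom_ext_free fun j => ?_
  rw [linHom_uvec, Finset.sum_eq_zero fun l _ => by rw [LinearMap.zero_apply, Pi.zero_apply, map_zero, zero_smul]]
  rfl

theorem linHom_add {a b : ℕ} (φ ψ : (Fin a → k) →ₗ[k] (Fin b → k)) :
    linHom c (φ + ψ) = linHom c φ + linHom c ψ := by
  refine hom_ext_free fun j => ?_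
  show _ = (linHom c φ).app ⊤ _ + (linHom c ψ).app ⊤ _
  rw [linHom_uvec, linHom_uvec, linHom_uvec, ← Finset.sum_add_distrib]
  exact Finset.sum_congr rfl fun l _ => by rw [LinearMap.add_apply, Pi.add_apply, map_add, add_smul]

/-- The kernel of a map of a free module into the span of `y` with surjective matrix. -/
theorem nonempty_kernel_linHom {N M d : ℕ} (hd : N = M + d) (f : (Fin N → k) →ₗ[k] (Fin M → k))
    (hf : Function.Surjective f) {L : X.Modules} (y : Fin M → Γ(L, ⊤)) :
    Nonempty (kernel (linHom c f ≫ freeHom L y) ≅ kernel (freeHom L y) ⊞ FlatMod.freeMod X d) := by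
  obtain ⟨g, hg⟩ := f.exists_rightInverse_of_surjective (LinearMap.range_eq_top.2 hf)
  have hrk : Module.finrank k (LinearMap.ker f) = d := by
    have h := f.finrank_range_add_finrank_ker
    rw [LinearMap.range_eq_top.2 hf, finrank_top, Module.finrank_fin_fun, Module.finrank_fin_fun] at h
    omega
  let e : LinearMap.ker f ≃ₗ[k] (Fin d → k) := LinearEquiv.ofFinrankEq _ _ (by rw [hrk, Module.finrank_fin_fun])
  have hfg : ∀ v, f (g v) = v := fun v => LinearMap.congr_fun hg v
  let q : (Fin N → k) →ₗ[k] (Fin d → k) := e.toLinearMap ∘ₗ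
    LinearMap.codRestrict (LinearMap.ker f) (LinearMap.id - g ∘ₗ f) fun v => by
      rw [LinearMap.mem_ker, LinearMap.sub_apply, map_sub, LinearMap.id_apply, LinearMap.comp_apply, hfg, sub_self]
  let h : (Fin d → k) →ₗ[k] (Fin N → k) := (LinearMap.ker f).subtype ∘ₗ e.symm.toLinearMap
  have h1 : g ∘ₗ f + h ∘ₗ q = LinearMap.id := LinearMap.ext fun v => by
    simp [h, q]
  have h2 : f ∘ₗ h = 0 := LinearMap.ext fun v => (e.symm v).2
  have h3 : q ∘ₗ g = 0 := LinearMap.ext fun v => by
    simp only [q, LinearMap.comp_apply, LinearMap.zero_apply]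
    refine (map_eq_zero_iff _ e.injective).2 (Subtype.ext ?_)
    simp [hfg]
  have h4 : q ∘ₗ h = LinearMap.id := LinearMap.ext fun v => by
    simp only [q, LinearMap.comp_apply, LinearMap.id_apply]
    refine (congrArg e (Subtype.ext ?_)).trans (e.apply_symm_apply v)
    have := (e.symm v).2
    rw [LinearMap.mem_ker] at this
    simp [h, this]
  let Φ : FlatMod.freeMod X N ≅ FlatMod.freeMod X M ⊞ FlatMod.freeMod X d :=
    { hom := biprod.lift (linHom c f) (linHom c q)
      inv := biprod.desc (linHom c g) (linHom c h)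
      hom_inv_id := by rw [biprod.lift_desc, linHom_comp, linHom_comp, ← linHom_add, h1, linHom_id]
      inv_hom_id := by
        apply biprod.hom_ext' <;> apply biprod.hom_ext <;>
          simp only [biprod.inl_desc_assoc, biprod.inr_desc_assoc, Category.assoc, biprod.lift_fst, biprod.lift_snd,
            Category.comp_id, biprod.inl_fst, biprod.inl_snd, biprod.inr_fst, biprod.inr_snd, linHom_comp, h2, h3,
            h4, linHom_zero, linHom_id]
        · rw [hg, linHom_id] }
  obtain ⟨K⟩ := nonempty_kernel_fst (B := FlatMod.freeMod X d) (freeHom L y)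
  exact ⟨kernel.mapIso _ _ Φ (Iso.refl _) (by simp [Φ]) ≪≫ K⟩

/-- A short exact sequence with invertible last term stays exact under pullback. -/
theorem shortExact_pullback_of_invertible {X' : Scheme.{u}} {S : ShortComplex X.Modules} (hS : S.ShortExact)
    (h3 : PicF.IsInvertible S.X₃) (g : X' ⟶ X) : (S.map (Scheme.Modules.pullback g)).ShortExact := by
  refine Groth.L17.BC.Efface.shortExact_pullback hS (fun x => ?_) g
  obtain ⟨e⟩ := Groth.L18.KernelTensorGG.exists_stalk_equiv h3 x
  haveI := hS.mono_f
  haveI := hS.epi_g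
  have hx : (S.map (Groth.L00.Stk.F X x)).ShortExact := hS.map_of_exact _
  haveI : Projective (S.map (Groth.L00.Stk.F X x)).X₃ :=
    ModuleCat.projective_of_free ((Module.Basis.singleton PUnit.{1} _).map e)
  exact (hx.splittingOfProjective).isSplitMono_f

end Groth.L03.VBPn
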