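import Groth.Agent.L03.VBPn.NullCorr
import Groth.Agent.L22.SyzTilde.Maps
import Groth.Agent.L29.DCoh.Amplitude
import Groth.Agent.L22.Adjunction.Seq
import Groth.Agent.L18.KRRAmple
import Groth.Agent.L21.RR.Finite

/-!
# Existence of null-correlation presentations in odd dimension

A linear syzygy `∑ pⱼ Xⱼ = 0` without common zero gives `O(-1) ⟶ Ω(1)` split at every point; in odd
dimension the pairwise skew syzygy is one.
-/

set_option autoImplicit false
set_option linter.style.haveILetI false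
set_option linter.unusedSectionVars false
set_option backward.isDefEq.respectTransparency false
set_option backward.isDefEq.respectTransparency.types false

universe u

open CategoryTheory CategoryTheory.Limits AlgebraicGeometry TopologicalSpace Opposite
open Groth.L22.SyzTilde (mulHom toLoc evalT evalT_injective evalT_mem evalT_mulHom exists_evalT_eq exists_fractionT)
open Groth.L18.QuotBasis (freeHom uvec hom_ext_free hom_ext_unit ι_freeHom homOfSection_one)
open Groth.L16.ProjSpace (xsec Xd)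
open Groth.L22.Reg (O')

noncomputable section

namespace Groth.L03.VBPn

variable {k : Type u} [Field k] {n : ℕ}

local notation "𝔄" => CohB1.polyGrading n k

/-- The unit section of `O(0)`. -/
def one0 : Γ(Twist.twist 𝔄 (0 : ℤ), (⊤ : (CohB1.ProjSpace n k).Opens)) :=
  Groth.L16.ProjTwist.gen (i := 0) (j := 0) (⟨1, SetLike.GradedOne.one_mem⟩ : 𝔄 0)
    ⟨1, SetLike.GradedOne.one_mem⟩ (by simp) ⊤ fun x => Groth.L16.ProjTwist.one_notMem _ x.1

theorem isIso_one0 : IsIso (Groth.L16.homOfSection (Twist.twist 𝔄 (0 : ℤ)) (one0 (n := n) (k := k))) := by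
  refine Groth.L16.isIso_homOfSection _ _ fun V => ?_
  exact ⟨Groth.L16.ProjTwist.smul_gen_injective (i := 0) (j := 0) (⟨1, SetLike.GradedOne.one_mem⟩ : 𝔄 0)
      ⟨1, SetLike.GradedOne.one_mem⟩ (by simp) V _ fun x => Groth.L16.ProjTwist.one_notMem _ x.1,
    Groth.L16.ProjTwist.smul_gen_surjective (i := 0) (j := 0) (⟨1, SetLike.GradedOne.one_mem⟩ : 𝔄 0)
      ⟨1, SetLike.GradedOne.one_mem⟩ (by simp) V (fun x => Groth.L16.ProjTwist.one_notMem _ x.1) _⟩

/-- `O = O(0)`. -/
def z0 : Coh.structureModule (CohB1.ProjSpace n k) ≅ Twist.twist 𝔄 (0 : ℤ) :=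
  haveI := isIso_one0 (n := n) (k := k)
  asIso (Groth.L16.homOfSection _ one0)

theorem mem_G_one (p : 𝔄 1) : p.1 ∈ Groth.L22.SyzTilde.G n k ((1 : ℕ) : ℤ) :=
  Groth.L22.SyzTilde.mem_G_cast.2 p.2

/-- Multiplication by a linear form `O(-1) ⟶ O`. -/
def mDown (p : 𝔄 1) : O' n k (-1) ⟶ Coh.structureModule (CohB1.ProjSpace n k) :=
  mulHom (n := (-1 : ℤ)) (n' := 0) (mem_G_one p) (by norm_num) ≫ z0.inv

theorem z0_mulHom (j : Fin (n + 1)) :
    z0.hom ≫ mulHom (n := (0 : ℤ)) (n' := ((1 : ℕ) : ℤ)) (mem_G_one (Xd n k j)) (zero_add _) =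
      Groth.L16.homOfSection (L1 n k) (xsec n k j) := by
  refine hom_ext_unit ?_
  rw [homOfSection_one]
  show (mulHom (n := (0 : ℤ)) (n' := ((1 : ℕ) : ℤ)) (mem_G_one (Xd n k j)) (zero_add _)).app ⊤
    ((Groth.L16.homOfSection _ one0).app ⊤ (1 : Γ(CohB1.ProjSpace n k, ⊤))) = _
  rw [homOfSection_one]
  refine Subtype.ext (funext fun x => Subtype.ext ?_)
  show toLoc x.1 (Xd n k j).1 * Localization.mk (1 : MvPolynomial (Fin (n + 1)) k) ⟨1, _⟩ = _
  rw [Localization.mk_mul]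
  refine Localization.mk_eq_mk_iff.2 (Localization.r_iff_exists.2 ⟨1, ?_⟩)
  simp

theorem app_sum {X : Scheme.{u}} {M N : X.Modules} {ι : Type*} (s : Finset ι) (f : ι → (M ⟶ N)) (U : X.Opens)
    (a : Γ(M, U)) : (∑ i ∈ s, f i).app U a = ∑ i ∈ s, (f i).app U a := by
  classical
  induction s using Finset.induction_on with
  | empty => simp
  | insert i s hi ih => rw [Finset.sum_insert hi, Finset.sum_insert hi, ← ih]; rfl

/-- The map given by linear forms. -/
def vMap (p : Fin (n + 1) → 𝔄 1) : O' n k (-1) ⟶ FlatMod.freeMod (CohB1.ProjSpace n k) (n + 1) :=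
  ∑ j, mDown (p j) ≫ Sigma.ι (fun _ : Fin (n + 1) => Coh.structureModule (CohB1.ProjSpace n k)) j

theorem vMap_wX (p : Fin (n + 1) → 𝔄 1) (hp : ∑ j, (Xd n k j).1 * (p j).1 = 0) : vMap p ≫ wX n k = 0 := by
  have hj : ∀ j, (mDown (p j) ≫ Sigma.ι (fun _ : Fin (n + 1) => Coh.structureModule (CohB1.ProjSpace n k)) j) ≫ wX n k =
      mulHom (n := (-1 : ℤ)) (n' := 0) (mem_G_one (p j)) (by norm_num) ≫
        mulHom (n := (0 : ℤ)) (n' := ((1 : ℕ) : ℤ)) (mem_G_one (Xd n k j)) (zero_add _) := fun j => by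
    rw [Category.assoc, ι_freeHom, mDown, Category.assoc, ← z0_mulHom, Iso.inv_hom_id_assoc]
  rw [vMap, Preadditive.sum_comp, Finset.sum_congr rfl fun j _ => hj j]
  refine Scheme.Modules.hom_ext _ _ fun U => ConcreteCategory.hom_ext _ _ fun a => ?_
  rw [app_sum]
  refine Subtype.ext (funext fun x => Subtype.ext ?_)
  let ev : Γ(L1 n k, U) →+ Twist.Loc 𝔄 x.1 :=
    AddMonoidHom.mk' (fun t : Twist.sectN (𝒜 := 𝔄) ((1 : ℕ) : ℤ) (op U) => (t.1 x).1) fun _ _ => rfl
  show ev (∑ j, _) = 0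
  rw [map_sum]
  have he : ∀ j, ev ((mulHom (n := (-1 : ℤ)) (n' := 0) (mem_G_one (p j)) (by norm_num) ≫
        mulHom (n := (0 : ℤ)) (n' := ((1 : ℕ) : ℤ)) (mem_G_one (Xd n k j)) (zero_add _)).app U a) =
      Localization.mk ((Xd n k j).1 * (p j).1) ⟨1, Groth.L16.ProjTwist.one_notMem _ x.1⟩ *
        ((show Twist.sectN (𝒜 := 𝔄) (-1 : ℤ) (op U) from a).1 x).1 := fun j => by
    show toLoc x.1 (Xd n k j).1 * (toLoc x.1 (p j).1 * _) = _
    rw [← mul_assoc, Localization.mk_mul]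
    congr 2
    exact Subtype.ext (one_mul 1)
  refine (Finset.sum_congr rfl fun j _ => he j).trans ?_
  rw [← Finset.sum_mul]
  have h0 : ∑ j, Localization.mk ((Xd n k j).1 * (p j).1) ⟨1, Groth.L16.ProjTwist.one_notMem _ x.1⟩ =
      (0 : Twist.Loc 𝔄 x.1) := by
    refine (Finset.sum_congr rfl fun j _ => Localization.mk_one_eq_algebraMap _).trans ?_
    erw [← map_sum, hp, map_zero]
  erw [h0, zero_mul]

theorem vMap_proj (p : Fin (n + 1) → 𝔄 1) (j : Fin (n + 1)) :
    vMap p ≫ Sigma.desc (fun l => if l = j then 𝟙 _ else 0) = mDown (p j) := by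
  rw [vMap, Preadditive.sum_comp, Finset.sum_eq_single j]
  · simp
  · intro l _ hl
    simp [hl]
  · exact fun h => absurd (Finset.mem_univ j) h

theorem bijective_stalk_mulHom (p : 𝔄 1) {x : CohB1.ProjSpace n k} (hx : p.1 ∉ x.asHomogeneousIdeal) :
    Function.Bijective ((Groth.L21.Mod.stalkF (CohB1.ProjSpace n k) x).map
      (mulHom (n := (-1 : ℤ)) (n' := 0) (mem_G_one p) (by norm_num))) := by
  have hu : toLoc x p.1 * Localization.mk 1 ⟨p.1, hx⟩ = 1 := by
    rw [Localization.mk_mul, ← Localization.mk_one, Localization.mk_eq_mk_iff, Localization.r_iff_exists]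
    exact ⟨1, by simp⟩
  refine ⟨fun a b h => evalT_injective (-1 : ℤ) x ?_, fun z => ?_⟩
  · have h' := congrArg (evalT (0 : ℤ) x) h
    erw [evalT_mulHom, evalT_mulHom] at h'
    have := congrArg (Localization.mk 1 ⟨p.1, hx⟩ * ·) h'
    rw [mul_comm _ (Localization.mk 1 _)] at hu
    simpa only [← mul_assoc, hu, one_mul] using this
  · rcases exists_fractionT (evalT_mem (0 : ℤ) x z) with h0 | ⟨i, j, a, b, hb, hij, hq⟩
    · exact ⟨0, evalT_injective (0 : ℤ) x (by rw [map_zero, map_zero, h0])⟩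
    · obtain ⟨y, hy⟩ := exists_evalT_eq (n := (-1 : ℤ)) (x := x) a
        (⟨b.1 * p.1, SetLike.mul_mem_graded b.2 p.2⟩ : 𝔄 (j + 1)) (Groth.L16.ProjTwist.notMem_mul _ hb hx)
        (by push_cast; omega)
      refine ⟨y, evalT_injective (0 : ℤ) x ?_⟩
      erw [evalT_mulHom, hy, hq, Localization.mk_mul, Localization.mk_eq_mk_iff, Localization.r_iff_exists]
      exact ⟨1, by simp; ring⟩

/-- A linear syzygy without common zero gives a subbundle of `Ω(1)`. -/
theorem exists_subbundle_of_syzygy (p : Fin (n + 1) → 𝔄 1) (hp : ∑ j, (Xd n k j).1 * (p j).1 = 0)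
    (hne : ∀ x : CohB1.ProjSpace n k, ∃ j, (p j).1 ∉ x.asHomogeneousIdeal) :
    ∃ u : O' n k (-1) ⟶ kernel (wX n k), Mono u ∧ FlatMod.IsFinLocFreeOfRank (n - 1) (cokernel u) := by
  let u : O' n k (-1) ⟶ kernel (wX n k) := kernel.lift _ (vMap p) (vMap_wX p hp)
  obtain ⟨hepi, -⟩ := exists_omega_iso n k
  haveI := hepi
  have hsplit : ∀ x, IsSplitMono ((Groth.L00.Stk.F (CohB1.ProjSpace n k) x).map u) := fun x => by
    obtain ⟨j, hj⟩ := hne x
    have hb : Function.Bijective ((Groth.L00.Stk.F (CohB1.ProjSpace n k) x).map (mDown (p j))) := by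
      rw [mDown, Functor.map_comp]
      exact (ConcreteCategory.bijective_of_isIso ((Groth.L00.Stk.F (CohB1.ProjSpace n k) x).map z0.inv)).comp
        (bijective_stalk_mulHom (p j) hj)
    haveI := (ConcreteCategory.isIso_iff_bijective _).2 hb
    have e : (Groth.L00.Stk.F (CohB1.ProjSpace n k) x).map u ≫
        (Groth.L00.Stk.F (CohB1.ProjSpace n k) x).map (kernel.ι (wX n k) ≫
          Sigma.desc (fun l => if l = j then 𝟙 _ else 0)) =
        (Groth.L00.Stk.F (CohB1.ProjSpace n k) x).map (mDown (p j)) := by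
      rw [← Functor.map_comp, kernel.lift_ι_assoc]
      erw [vMap_proj]
    exact IsSplitMono.mk' ⟨_ ≫ inv ((Groth.L00.Stk.F (CohB1.ProjSpace n k) x).map (mDown (p j))), by
      rw [← Category.assoc, e, IsIso.hom_inv_id]⟩
  have hmono : Mono u := Groth.L17.BC.Efface.mono_of_stalkSplit hsplit
  haveI := hmono
  let S := ShortComplex.mk u (cokernel.π u) (cokernel.condition u)
  have hS : S.ShortExact :=
    { exact := ShortComplex.exact_cokernel u
      mono_f := inferInstanceAs (Mono u)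
      epi_g := inferInstanceAs (Epi (cokernel.π u)) }
  have hF := Groth.L18.QuotChart.isFinLocFreeOfRank_free (CohB1.ProjSpace n k) (n + 1)
  have hL := Groth.L12.FinCov.isFinLocFreeOfRank_one_of_isInvertible
    (Groth.L16.ProjTwist.isInvertible_twistProjSpace n k ((1 : ℕ) : ℤ))
  have hM := Groth.L12.FinCov.isFinLocFreeOfRank_one_of_isInvertible
    (Groth.L16.ProjTwist.isInvertible_twistProjSpace n k (-1 : ℤ))
  have hK : FlatMod.IsFinLocFree (kernel (wX n k)) := Groth.L29.DC.isFinLocFree_kernel_of_epi (wX n k)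
    (fun y => (hF y).imp fun O h => ⟨n + 1, h⟩) fun y => (hL y).imp fun O h => ⟨1, h⟩
  have hflat : FlatMod.IsFlat (cokernel u) := fun x => by
    have hx : (S.map (Groth.L00.Stk.F (CohB1.ProjSpace n k) x)).ShortExact := hS.map_of_exact _
    obtain ⟨r, hr⟩ := (hsplit x).exists_splitMono
    haveI := hx.epi_g
    let sp := ShortComplex.Splitting.ofExactOfRetraction _ hx.exact r hr hx.epi_g
    obtain ⟨m, hm⟩ := Groth.L18.KRRAmple.exists_rank hK
    obtain ⟨e⟩ := Groth.L22.CurveDeg.nonempty_stalk_equiv hm x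
    haveI : Module.Free _ ((Groth.L00.Stk.F (CohB1.ProjSpace n k) x).obj (kernel (wX n k))) :=
      Module.Free.of_basis ((Pi.basisFun _ (Fin m)).map e)
    haveI : Module.Flat ((CohB1.ProjSpace n k).presheaf.stalk x) (S.map (Groth.L00.Stk.F (CohB1.ProjSpace n k) x)).X₂ :=
      inferInstanceAs (Module.Flat ((CohB1.ProjSpace n k).presheaf.stalk x) ((Groth.L00.Stk.F (CohB1.ProjSpace n k) x).obj (kernel (wX n k))))
    refine Module.Flat.of_retract sp.s.hom (S.map (Groth.L00.Stk.F (CohB1.ProjSpace n k) x)).g.hom ?_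
    exact congrArg ModuleCat.Hom.hom sp.s_g
  have hQ : FlatMod.IsFinLocFree (cokernel u) :=
    Groth.L29.DC.Fib.isFinLocFree_cokernel (fun y => (hM y).imp fun O h => ⟨1, h⟩) hK u hflat
  haveI : IsIntegral (CohB1.ProjSpace n k) := Groth.L16.ProjSpace.isIntegral n k
  obtain ⟨m, hm⟩ := Groth.L18.KRRAmple.exists_rank hK
  obtain ⟨r, hr⟩ := Groth.L18.KRRAmple.exists_rank hQ
  obtain ⟨x⟩ := (inferInstance : Nonempty (CohB1.ProjSpace n k))
  obtain ⟨U, eK, hxU, -, heK⟩ := Groth.L22.CurveDeg.Det.exists_affine_basis hm x ⊤ trivial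
  obtain ⟨V, eM, hxV, -, heM⟩ := Groth.L22.CurveDeg.Det.exists_affine_basis hM x ⊤ trivial
  have hT : (ShortComplex.mk (kernel.ι (wX n k)) (wX n k) (kernel.condition _)).ShortExact :=
    { exact := ShortComplex.exact_kernel (wX n k)
      mono_f := inferInstanceAs (Mono (kernel.ι (wX n k)))
      epi_g := inferInstanceAs (Epi (wX n k)) }
  have h1 := Groth.L22.Adjunction.rank_add hT heK hxU hF hL
  have h2 := Groth.L22.Adjunction.rank_add hS heM hxV hm hr
  exact ⟨u, hmono, (show n - 1 = r by omega) ▸ hr⟩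

theorem exists_syzygy_of_odd (hn : Odd n) : ∃ p : Fin (n + 1) → 𝔄 1,
    ∑ j, (Xd n k j).1 * (p j).1 = 0 ∧ ∀ x : CohB1.ProjSpace n k, ∃ j, (p j).1 ∉ x.asHomogeneousIdeal := by
  obtain ⟨m, rfl⟩ := hn
  let σ : Fin (2 * m + 1 + 1) → Fin (2 * m + 1 + 1) := fun j =>
    if h : j.1 % 2 = 0 then ⟨j.1 + 1, by omega⟩ else ⟨j.1 - 1, by omega⟩
  have hval : ∀ j, (σ j).1 = if j.1 % 2 = 0 then j.1 + 1 else j.1 - 1 := fun j => by
    simp only [σ]
    split_ifs <;> rfl
  have hσσ : ∀ j, σ (σ j) = j := fun j => Fin.ext (by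
    rw [hval, hval]
    split_ifs <;> omega)
  have hpar : ∀ j, (σ j).1 % 2 = 0 ↔ ¬ j.1 % 2 = 0 := fun j => by
    rw [hval]
    split_ifs <;> omega
  let ε : Fin (2 * m + 1 + 1) → k := fun j => if j.1 % 2 = 0 then 1 else -1
  refine ⟨fun j => ε j • Xd (2 * m + 1) k (σ j), ?_, fun x => ?_⟩
  · refine Finset.sum_involution (fun j _ => σ j) (fun j _ => ?_) (fun j _ _ h => ?_) (fun _ _ => Finset.mem_univ _)
      fun j _ => hσσ j
    · have : ε (σ j) = - ε j := by
        simp only [ε, hpar j]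
        split_ifs <;> simp
      simp only [Submodule.coe_smul, hσσ, this, neg_smul, mul_neg, mul_smul_comm]
      rw [mul_comm (Xd (2 * m + 1) k (σ j)).1, add_neg_cancel]
    · have := hpar j
      rw [h] at this
      tauto
  · obtain ⟨l, hl⟩ := Groth.L16.ProjSpace.exists_mem_basicOpen_X (2 * m + 1) k x
    refine ⟨σ l, fun hmem => (Proj.mem_basicOpen _ _ _).1 hl ?_⟩
    have hε : ε (σ l) ≠ 0 := by
      simp only [ε]
      split_ifs <;> simp
    have h' := x.asHomogeneousIdeal.toIdeal.smul_of_tower_mem (ε (σ l))⁻¹ hmem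
    simp only [Submodule.coe_smul, hσσ, smul_smul, inv_mul_cancel₀ hε, one_smul] at h'
    exact h'

end Groth.L03.VBPn
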