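import Groth.Agent.L03.VBPn.Cotangent
import Groth.Agent.L03.VBPn.FreeHom
import Groth.Agent.L03.PlanePoints
import Groth.Agent.L16.ProjSpace.Ample
import Groth.Agent.L18.GenLocus
import Groth.Agent.L12.FinCov.Frame

/-!
# The cotangent sheaf on a linear subspace
-/

set_option autoImplicit false
set_option linter.style.haveILetI false
set_option linter.unusedSectionVars false
set_option backward.isDefEq.respectTransparency false
set_option backward.isDefEq.respectTransparency.types false

universe u

open CategoryTheory CategoryTheory.Limits AlgebraicGeometry TopologicalSpace Opposite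
open Groth.L18.Frame (rs rs_rs rs_self pull)
open Groth.L18.QuotBasis (freeHom uvec freeHom_uvec hom_ext_free)
open Groth.L16.ProjSpace (xsec Xd polyToSection polyToSection_surjective X_mem)
open Groth.L19.ProjBdl (IsBasisOn locus sec exists_mem_locus isFrame_locus locus_le le_locus)

noncomputable section

namespace Groth.L03.VBPn

variable (n : ℕ) (k : Type u) [Field k]

/-- The constants, as a ring map. -/
abbrev cstHom : k →+* Γ(CohB1.ProjSpace n k, ⊤) := Coh.toGlobal (CohB1.ProjSpace.toSpec n k)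

/-- The coordinates. -/
abbrev wX : FlatMod.freeMod (CohB1.ProjSpace n k) (n + 1) ⟶ L1 n k := freeHom (L1 n k) fun j => xsec n k j

theorem app_map_pull {X Y : Scheme.{u}} (f : X ⟶ Y) {M N : Y.Modules} (φ : M ⟶ N) (V : Y.Opens) (v : Γ(M, V)) :
    ((Scheme.Modules.pullback f).map φ).app (f ⁻¹ᵁ V) (pull f M V v) = pull f N V (φ.app V v) :=
  (congr($(((Scheme.Modules.pullbackPushforwardAdjunction f).unit.naturality φ)).app V v)).symm

/-- `Ω(1)` is the kernel of the coordinates. -/
theorem exists_omega_iso : Epi (wX n k) ∧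
    Nonempty (CohB1.tensorMod (Omega.sheaf (CohB1.ProjSpace.toSpec n k)) (L1 n k) ≅ kernel (wX n k)) := by
  have hb : IsBasisOn _ (⊤ : (CohB1.ProjSpace n k).Opens) fun j =>
      pull (CohB1.ProjSpace.toSpec n k) _ ⊤ (b₀ n k j) := (isBasisOn_b₀ n k).pullback (CohB1.ProjSpace.toSpec n k)
  haveI := isIso_freeHom hb
  let θ := asIso (freeHom _ fun j => pull (CohB1.ProjSpace.toSpec n k) _ ⊤ (b₀ n k j))
  have hθ : θ.hom ≫ eulerU n k = wX n k := hom_ext_free fun j => by
    show (eulerU n k).app ⊤ (θ.hom.app ⊤ (uvec _ _ j)) = _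
    simp only [θ, asIso_hom, freeHom_uvec]
    exact (sec_eq n k j)
  refine ⟨hθ ▸ inferInstance, ?_⟩
  obtain ⟨e⟩ := nonempty_kernel_iso n k
  exact ⟨e ≪≫ kernel.mapIso (eulerU n k) (wX n k) θ.symm (Iso.refl _) (by simp [← hθ])⟩

theorem exists_coeffs (s : Γ(L1 n k, ⊤)) : ∃ a : Fin (n + 1) → k,
    ∑ l, a l • Xd n k l ∈ {p | formsToSec n k p = s} := by
  obtain ⟨p, hp⟩ := polyToSection_surjective (n := n) (R := k) 1 s
  have hli : LinearIndependent k (fun l => Xd n k l) := by
    rw [Fintype.linearIndependent_iff]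
    intro g hg i
    refine congrFun (eq_zero_of_sum_xsec n k g ?_) i
    rw [← map_zero (formsToSec n k), ← hg, map_sum]
    exact Finset.sum_congr rfl fun l _ => smul_polyToSection n k (g l) (Xd n k l)
  haveI := (Groth.L03.PlanePoints.finrank_homogeneous (F := k) n 1).1
  have hspan := hli.span_eq_top_of_card_eq_finrank (by
    rw [Fintype.card_fin]
    exact ((Groth.L03.PlanePoints.finrank_homogeneous (F := k) n 1).2.trans
      (by rw [add_comm 1 n, Nat.choose_succ_self_right])).symm)
  obtain ⟨a, ha⟩ := (Submodule.mem_span_range_iff_exists_fun k).1 (hspan.ge (Submodule.mem_top (x := p)))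
  exact ⟨a, by rw [Set.mem_setOf_eq, ha]; exact hp⟩

/-- A point where given linear forms vanish, from a common zero of their coefficient vectors. -/
theorem exists_point {v : Fin (n + 1) → k} (hv : v ≠ 0) :
    ∃ x : CohB1.ProjSpace n k, ∀ a : Fin (n + 1) → k, ∑ l, a l * v l = 0 →
      x ∉ Proj.basicOpen (CohB1.polyGrading n k) (∑ l, a l • Xd n k l : CohB1.polyGrading n k 1).1 := by
  classical
  let φ : MvPolynomial (Fin (n + 1)) k →ₐ[k] Polynomial k :=
    MvPolynomial.aeval fun l => Polynomial.C (v l) * Polynomial.X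
  have hmono : ∀ (i : ℕ) (g : MvPolynomial (Fin (n + 1)) k), g.IsHomogeneous i →
      ∃ c, φ g = Polynomial.C c * Polynomial.X ^ i := by
    intro i g hg
    refine ⟨∑ m ∈ g.support, g.coeff m * ∏ l, v l ^ m l, ?_⟩
    conv_lhs => rw [g.as_sum]
    rw [map_sum, map_sum, Finset.sum_mul]
    refine Finset.sum_congr rfl fun m hm => ?_
    have hdeg : ∑ l, m l = i := by
      rw [← hg (MvPolynomial.mem_support_iff.1 hm)]
      simp [Finsupp.weight_apply, Finsupp.sum_fintype]
    rw [MvPolynomial.aeval_monomial, Finsupp.prod_fintype _ _ (by simp), Polynomial.algebraMap_eq]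
    simp only [mul_pow, Finset.prod_mul_distrib, Finset.prod_pow_eq_pow_sum, hdeg, map_mul, map_prod, map_pow]
    ring
  let P : Ideal (MvPolynomial (Fin (n + 1)) k) := RingHom.ker φ
  have hhom : P.IsHomogeneous (CohB1.polyGrading n k) := by
    intro i f hf
    rw [RingHom.mem_ker] at hf ⊢
    rw [show (((DirectSum.decompose (CohB1.polyGrading n k)) f i : CohB1.polyGrading n k i) :
        MvPolynomial (Fin (n + 1)) k) = MvPolynomial.homogeneousComponent i f from
      MvPolynomial.decomposition.decompose'_apply f i]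
    obtain ⟨c, hc⟩ := hmono i _ (MvPolynomial.homogeneousComponent_isHomogeneous i f)
    rw [hc]
    have hf' : ∀ j, ∃ c, φ (MvPolynomial.homogeneousComponent j f) = Polynomial.C c * Polynomial.X ^ j :=
      fun j => hmono j _ (MvPolynomial.homogeneousComponent_isHomogeneous j f)
    choose cc hcc using hf'
    have h0 : ∑ j ∈ Finset.range (f.totalDegree + 1), Polynomial.C (cc j) * Polynomial.X ^ j = 0 := by
      rw [← hf]
      conv_rhs => rw [← MvPolynomial.sum_homogeneousComponent f]
      rw [map_sum]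
      exact Finset.sum_congr rfl fun j _ => (hcc j).symm
    rw [← hc, hcc i]
    by_cases hi : i ∈ Finset.range (f.totalDegree + 1)
    · have := congrArg (fun p => Polynomial.coeff p i) h0
      simp only [Polynomial.finset_sum_coeff, Polynomial.coeff_C_mul_X_pow, Polynomial.coeff_zero] at this
      rw [Finset.sum_ite_eq, if_pos hi] at this
      rw [this, map_zero, zero_mul]
    · rw [← hcc i, MvPolynomial.homogeneousComponent_eq_zero i f (by simpa using hi), map_zero]
  obtain ⟨l₀, hl₀⟩ : ∃ l, v l ≠ 0 := Function.ne_iff.1 hv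
  refine ⟨⟨⟨P, hhom⟩, RingHom.ker_isPrime φ, fun hle => ?_⟩, fun a ha => ?_⟩
  · have : MvPolynomial.X l₀ ∈ P := hle (HomogeneousIdeal.mem_irrelevant_of_mem (CohB1.polyGrading n k) one_pos (X_mem n k l₀))
    rw [RingHom.mem_ker] at this
    simp [φ, hl₀] at this
  · rw [Proj.mem_basicOpen, not_not]
    show _ ∈ P
    rw [RingHom.mem_ker, AddSubmonoidClass.coe_finset_sum, map_sum]
    calc ∑ l, φ ((a l • Xd n k l : CohB1.polyGrading n k 1) : MvPolynomial (Fin (n + 1)) k)
        = ∑ l, Polynomial.C (a l * v l) * Polynomial.X :=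
          Finset.sum_congr rfl fun l _ => by simp [φ, Xd, Polynomial.smul_eq_C_mul, mul_assoc]
      _ = 0 := by rw [← Finset.sum_mul, ← map_sum, ha, map_zero, zero_mul]

variable {n k}

/-- The twisted cotangent sheaf on a linear subspace. -/
theorem nonempty_pullback_omega_one {m : ℕ} (i : CohB1.ProjSpace m k ⟶ CohB1.ProjSpace n k)
    (e : (Scheme.Modules.pullback i).obj (L1 n k) ≅ L1 m k) (hm : m ≤ n) :
    Nonempty ((Scheme.Modules.pullback i).obj
        (CohB1.tensorMod (Omega.sheaf (CohB1.ProjSpace.toSpec n k)) (L1 n k)) ≅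
      CohB1.tensorMod (Omega.sheaf (CohB1.ProjSpace.toSpec m k)) (L1 m k) ⊞
        FlatMod.freeMod (CohB1.ProjSpace m k) (n - m)) := by
  classical
  obtain ⟨hepi, ⟨en⟩⟩ := exists_omega_iso n k
  obtain ⟨-, ⟨em⟩⟩ := exists_omega_iso m k
  haveI := hepi
  let w := wX n k
  let bb : Fin (n + 1) → Γ(FlatMod.freeMod (CohB1.ProjSpace n k) (n + 1), (⊤ : (CohB1.ProjSpace n k).Opens)) :=
    fun j => rs _ le_top (uvec (CohB1.ProjSpace n k) (n + 1) j)
  have hb : IsBasisOn _ (⊤ : (CohB1.ProjSpace n k).Opens) bb := Groth.L18.GrassProper.isBasisOn_uvec _ _ ⊤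
  have hbi : IsBasisOn _ (⊤ : (CohB1.ProjSpace m k).Opens) fun j =>
      pull i _ ⊤ (bb j) := hb.pullback i
  haveI := isIso_freeHom hbi
  let θ := asIso (freeHom _ fun j => pull i _ ⊤ (bb j))
  let u := (Scheme.Modules.pullback i).map w ≫ e.hom
  haveI : PreservesColimitsOfSize.{0, 0} (Scheme.Modules.pullback i) :=
    (Scheme.Modules.pullbackPushforwardAdjunction i).leftAdjoint_preservesColimits
  haveI : Epi u := inferInstance
  let τ : Fin (n + 1) → Γ(L1 m k, ⊤) := fun j =>
    sec i u bb j
  have hθu : θ.hom ≫ u = freeHom (L1 m k) τ := hom_ext_free fun j => by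
    show u.app ⊤ (θ.hom.app ⊤ (uvec _ _ j)) = _
    simp only [θ, asIso_hom, freeHom_uvec]
    rfl
  choose A hA using fun j => exists_coeffs m k (τ j)
  let f : (Fin (n + 1) → k) →ₗ[k] (Fin (m + 1) → k) := Fintype.linearCombination k A
  have hτ : freeHom (L1 m k) τ = linHom (cstHom m k) f ≫ wX m k := hom_ext_free fun j => by
    show _ = (wX m k).app ⊤ ((linHom (cstHom m k) f).app ⊤ (uvec _ _ j))
    rw [linHom_uvec, app_sum_smul, freeHom_uvec, show f (Pi.single j 1) = A j by
      simp [f, Fintype.linearCombination_apply_single]]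
    simp only [freeHom_uvec]
    rw [← (hA j : formsToSec m k _ = τ j), map_sum]
    exact Finset.sum_congr rfl fun l _ => (smul_polyToSection m k (A j l) (Xd m k l)).symm
  have hsurj : Function.Surjective f := by
    rw [← LinearMap.range_eq_top]
    by_contra hne
    obtain ⟨φ, hφ0, hφ⟩ := Submodule.exists_le_ker_of_lt_top _ (lt_top_iff_ne_top.2 hne)
    let v : Fin (m + 1) → k := fun l => φ (Pi.single l 1)
    have hφv : ∀ a : Fin (m + 1) → k, φ a = ∑ l, a l * v l := fun a => by
      conv_lhs => rw [pi_eq_sum_univ' a, map_sum]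
      exact Finset.sum_congr rfl fun l _ => by rw [map_smul, smul_eq_mul]
    have hv : v ≠ 0 := fun h => hφ0 (LinearMap.ext fun a => by rw [hφv, h]; simp)
    obtain ⟨x, hx⟩ := exists_point m k hv
    obtain ⟨j, hj⟩ := exists_mem_locus i u bb
      (Groth.L12.FinCov.isFinLocFreeOfRank_one_of_isInvertible
        (Groth.L16.ProjTwist.isInvertible_twistProjSpace m k ((1 : ℕ) : ℤ))) hb (x := x) trivial
    have hAj : φ (A j) = 0 := hφ ⟨Pi.single j 1, by simp [f, Fintype.linearCombination_apply_single]⟩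
    rw [hφv] at hAj
    refine hx (A j) hAj ?_
    have hgen := Groth.L18.GenLoc.le_genLocus
      (Groth.L16.ProjTwist.sect (CohB1.polyGrading m k) (∑ l, A j l • Xd m k l))
      (U := locus i u bb j) (by
        have h := isFrame_locus i u bb j
        rw [show Groth.L18.GenLoc.secOf (Groth.L16.ProjTwist.sect (CohB1.polyGrading m k) (∑ l, A j l • Xd m k l)) =
          τ j from (Groth.L18.GenLoc.secOf_homOfSection _).trans (hA j)]
        exact h)
    exact (Groth.L16.ProjTwist.genLocus_sect _ (Groth.L22.Reg.hcov m k) _).le (hgen hj)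
  let S := ShortComplex.mk (kernel.ι w) w (kernel.condition w)
  have hS : S.ShortExact :=
    { exact := ShortComplex.exact_kernel w
      mono_f := inferInstanceAs (Mono (kernel.ι w))
      epi_g := inferInstanceAs (Epi w) }
  have hS' := shortExact_pullback_of_invertible hS
    (Groth.L16.ProjTwist.isInvertible_twistProjSpace n k ((1 : ℕ) : ℤ)) i
  let K : (Scheme.Modules.pullback i).obj (kernel w) ≅ kernel ((Scheme.Modules.pullback i).map w) :=
    hS'.fIsKernel.conePointUniqueUpToIso (limit.isLimit _)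
  obtain ⟨N⟩ := nonempty_kernel_linHom (cstHom m k) (show n + 1 = (m + 1) + (n - m) by omega) f hsurj
    (fun l => xsec m k l)
  exact ⟨(Scheme.Modules.pullback i).mapIso en ≪≫ K ≪≫
    kernel.mapIso _ (linHom (cstHom m k) f ≫ wX m k) θ.symm e (by
      rw [← hτ, ← hθu]; simp [u]) ≪≫ N ≪≫ biprod.mapIso em.symm (Iso.refl _)⟩

end Groth.L03.VBPn
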