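import Groth.Agent.L22.PDual.LocFreeLow

/-!
# Vanishing below the top degree for very negative twists of bundles
-/

set_option autoImplicit false
set_option backward.isDefEq.respectTransparency false
set_option linter.style.haveILetI false
universe u

open CategoryTheory CategoryTheory.Limits CategoryTheory.Abelian AlgebraicGeometry TopologicalSpace Opposite

noncomputable section

namespace Groth.L03.VBPn

open Groth.L00.Tensor (tensorRightF tensorIso tensorComm tensorAssoc tensorFlipIso tensorUnitLeft)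
open Groth.L17.ChangeRings (homMod tensorRightBiIso)
open Groth.L16
open Groth.L22.Reg (O' tw')
open Groth.L22.PDual

variable {k : Type u} [Field k] {n : ℕ}

theorem exists_low_mid {q : ℕ} (hq : q < n) {E : (CohB1.ProjSpace n k).Modules} (hE : FlatMod.IsFinLocFree E) :
    ∃ b : ℤ, ∀ t : ℤ, t ≤ b → Subsingleton (Coh.HH (CohB1.ProjSpace n k) (tw' E t) q) := by
  haveI := proper n k
  haveI := Groth.L21.RR.isNoetherian_of_proper (X := CohB1.ProjSpace n k) k
  haveI := Groth.L00.Tensor.grothendieckAbelian_modules (CohB1.ProjSpace n k)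
  haveI : HasExt.{u} (CohB1.ProjSpace n k).Modules := inferInstance
  haveI := Groth.L17.Duality.hasSheafHom E
  have hdual : Coh.IsCoh (Groth.L17.Duality.dual E) :=
    Groth.L16.NegPow.isCoh_of_isFinLocFree (Groth.L20.ResDescent.isFinLocFree_dual E hE)
  have hH : Coh.IsCoh (CohB1.tensorMod (ω' n k) (Groth.L17.Duality.dual E)) :=
    Groth.L16.CohSupport.isCoh_of_iso (tensorComm _ _)
      (Groth.L03.Euler.isCoh_tensor (ProjTwist.isInvertible_twistProjSpace n k _) hdual)
  obtain ⟨d, hd⟩ := ProjSpace.exists_vanishing n k _ hH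
  refine ⟨-(d : ℤ), fun t ht => ?_⟩
  obtain ⟨j, rfl⟩ : ∃ j : ℕ, t = -(j : ℤ) := ⟨(-t).toNat, by omega⟩
  have hEj : FlatMod.IsFinLocFree (tw' E (-(j : ℤ))) :=
    Groth.L29.DC.isFinLocFree_tensor hE
      (Groth.L20.ResDescent.isFinLocFree_of_isInvertible (ProjTwist.isInvertible_twistProjSpace n k _))
  have hc := Groth.L16.NegPow.isCoh_of_isFinLocFree hEj
  suffices hs : Subsingleton (Ext (tw' E (-(j : ℤ))) (ω' n k) (n - q)) by
    have h' := (subsingleton_ext_iff hc (Nat.sub_le n q)).1 hs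
    rwa [Nat.sub_sub_self hq.le] at h'
  haveI : DCoh.HasSheafHom (tw' E (-(j : ℤ))) :=
    haveI := Groth.L17.Duality.hasSheafHom (tw' E (-(j : ℤ)))
    ((ModSite.sheafHomAdj (O := (CohB1.ProjSpace n k).sheaf) (tw' E (-(j : ℤ)))).ofNatIsoLeft
      ((tensorRightBiIso _).symm ≪≫ rightBiIso _)).isLeftAdjoint
  obtain ⟨e⟩ := nonempty_ext_linearEquiv (k := k) _ hEj (n - q) (ω' n k)
  refine @Equiv.subsingleton _ _ e.toEquiv ?_
  haveI := Groth.L17.Duality.hasSheafHom (O' n k (-(j : ℤ)))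
  haveI := Groth.L17.Duality.hasSheafHom (tw' E (-(j : ℤ)))
  haveI : ModSite.HasSheafHom (O := (CohB1.ProjSpace n k).sheaf) (CohB1.tensorMod E (O' n k (-(j : ℤ)))) :=
    Groth.L17.Duality.hasSheafHom _
  obtain ⟨a⟩ := Groth.L22.Reg.nonempty_O_add (n := n) (R := k) (show -(j : ℤ) + j = 0 by omega)
  obtain ⟨b⟩ := Groth.L22.Reg.nonempty_O_zero n k
  obtain ⟨c⟩ := nonempty_homMod_invertible (L := O' n k (-(j : ℤ))) (L' := O' n k (j : ℤ)) (a ≪≫ b)
  let i : (DCoh.sheafHom (tw' E (-(j : ℤ)))).obj (ω' n k) ≅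
      CohB1.tensorMod (O' n k (j : ℤ)) (CohB1.tensorMod (ω' n k) (Groth.L17.Duality.dual E)) :=
    (homIso _).app _ ≪≫ (Groth.L17.Duality.homTensorIso (O' n k (-(j : ℤ))) E).symm.app _ ≪≫
      c.app _ ≪≫ tensorComm _ _ ≪≫ tensorIso (Iso.refl _) ((Groth.L17.Duality.tensorDualIso E hE).app (ω' n k)).symm
  exact Groth.L22.Reg.subsingleton_iso i.symm (n - q) (hd j (by omega) (n - q) (by omega))

end Groth.L03.VBPn
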