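import Groth.Agent.L03.VBPn.Restrict
import Groth.Agent.L03.VBPn.Low
import Groth.Agent.L03.Euler.Drop
import Groth.Agent.L20.DescLocus.Unit

/-!
# Bundles restricted to linear subspaces
-/

set_option autoImplicit false
set_option linter.style.haveILetI false
set_option linter.unusedSectionVars false
set_option backward.isDefEq.respectTransparency false
set_option backward.isDefEq.respectTransparency.types false

universe u

open CategoryTheory CategoryTheory.Limits AlgebraicGeometry TopologicalSpace
open Groth.L22.Reg (O' tw')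
open Groth.L16
open Groth.L00.Tensor (tensorIso tensorComm tensorAssoc tensorUnitLeft tensorUnitRight)

noncomputable section

namespace Groth.L03.VBPn

variable {k : Type u} [Field k]

theorem dim_le_of_closed {m n : ℕ} (i : CohB1.ProjSpace m k ⟶ CohB1.ProjSpace n k) [IsClosedImmersion i] : m ≤ n := by
  have h := i.isClosedEmbedding.isInducing.topologicalKrullDim_le
  rw [ProjSpace.topologicalKrullDim_eq_of_field, ProjSpace.topologicalKrullDim_eq_of_field] at h
  exact_mod_cast h

theorem isIso_of_closed {n : ℕ} (i : CohB1.ProjSpace n k ⟶ CohB1.ProjSpace n k) [IsClosedImmersion i] : IsIso i := by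
  haveI : IsIntegral (CohB1.ProjSpace n k) := ProjSpace.isIntegral n k
  haveI : Surjective i := ⟨by
    rw [← Set.range_eq_univ]
    by_contra hne
    have h1 := Groth.L03.Euler.topologicalKrullDim_add_one_le i.isClosedEmbedding.isClosed_range
      (IrreducibleSpace.isIrreducible_univ _) (Set.subset_univ _) hne
    rw [IsHomeomorph.topologicalKrullDim_eq _ (Homeomorph.Set.univ (CohB1.ProjSpace n k)).isHomeomorph,
      ← IsHomeomorph.topologicalKrullDim_eq _ i.isClosedEmbedding.isEmbedding.toHomeomorph.isHomeomorph,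
      ProjSpace.topologicalKrullDim_eq_of_field] at h1
    have h2 : ((n + 1 : ℕ) : WithBot ℕ∞) ≤ (n : ℕ) := by push_cast; exact h1
    have h3 : n + 1 ≤ n := by exact_mod_cast h2
    omega⟩
  exact isIso_of_isClosedImmersion_of_surjective i

/-- Cohomology along an automorphism. -/
theorem subsingleton_iff_of_isIso {n : ℕ} (i : CohB1.ProjSpace n k ⟶ CohB1.ProjSpace n k) [IsIso i]
    (hi : i ≫ CohB1.ProjSpace.toSpec n k = CohB1.ProjSpace.toSpec n k)
    (h1 : Nonempty ((Scheme.Modules.pullback i).obj (O' n k 1) ≅ O' n k 1)) {E : (CohB1.ProjSpace n k).Modules}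
    (hE : FlatMod.IsFinLocFree E) (t : ℤ) (p : ℕ) :
    Subsingleton (Coh.HH (CohB1.ProjSpace n k) (tw' E t) p) ↔
      Subsingleton (Coh.HH (CohB1.ProjSpace n k) (tw' ((Scheme.Modules.pullback i).obj E) t) p) := by
  have hEt : FlatMod.IsFinLocFree (tw' E t) := Groth.L29.DC.isFinLocFree_tensor hE
    (Groth.L20.ResDescent.isFinLocFree_of_isInvertible (ProjTwist.isInvertible_twistProjSpace _ k _))
  haveI := Groth.L20.DescLocus.isIso_unitToPush i fun U => inferInstance
  haveI : Coh.IsQCoh (Coh.structureModule (CohB1.ProjSpace n k)) :=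
    Groth.L21.Extend.isQCoh_of_isInvertible (Groth.L18.Ample.isInvertible_structureModule _)
  haveI : Coh.IsQCoh ((Scheme.Modules.pullback i).obj (tw' E t)) :=
    Groth.L29.DC.PCQCoh.isQCoh_of_isFinLocFree (Groth.L20.DescLocus.isFinLocFree_pullback i hEt)
  haveI := Groth.L17.ProjFormula.isIso_θ i (tw' E t) (Coh.structureModule (CohB1.ProjSpace n k)) hEt
  obtain ⟨eP⟩ := nonempty_pullback_tw i h1 E t
  let e : tw' E t ≅ (Scheme.Modules.pushforward i).obj (tw' ((Scheme.Modules.pullback i).obj E) t) :=
    (tensorUnitRight _).symm ≪≫ tensorIso (Iso.refl _) (asIso (ClSub.unitToPush i)) ≪≫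
      asIso (Groth.L17.ClosedPush.θ i (Coh.structureModule (CohB1.ProjSpace n k)) (tw' E t)) ≪≫
      (Scheme.Modules.pushforward i).mapIso (tensorUnitRight _ ≪≫ eP)
  refine (Groth.L22.Reg.subsingleton_congr_iso e p).trans ?_
  obtain ⟨g⟩ := Groth.L14.LocHilbLift.nonempty_HH_pushEquiv (k := k) i hi
    (tw' ((Scheme.Modules.pullback i).obj E) t) p
  exact g.toEquiv.subsingleton_congr

/-- A bundle trivial on one line has no sections in negative twists. -/
theorem subsingleton_h0_of_trivial_line : ∀ (n : ℕ) (i : CohB1.ProjSpace 1 k ⟶ CohB1.ProjSpace n k)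
    [IsClosedImmersion i], i ≫ CohB1.ProjSpace.toSpec n k = CohB1.ProjSpace.toSpec 1 k →
    Nonempty ((Scheme.Modules.pullback i).obj (O' n k 1) ≅ O' 1 k 1) →
    ∀ (E : (CohB1.ProjSpace n k).Modules), FlatMod.IsFinLocFree E →
    (∀ t : ℤ, t ≤ -1 → Subsingleton (Coh.HH (CohB1.ProjSpace 1 k) (tw' ((Scheme.Modules.pullback i).obj E) t) 0)) →
    ∀ t : ℤ, t ≤ -1 → Subsingleton (Coh.HH (CohB1.ProjSpace n k) (tw' E t) 0)
  | 0, i, _, _, _, _, _, _, _, _ => absurd (dim_le_of_closed i) (by omega)
  | n + 1, i, _, hi, h1, E, hE, hres, t, ht => by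
    rcases Nat.eq_zero_or_pos n with rfl | hn
    · haveI := isIso_of_closed i
      exact (subsingleton_iff_of_isIso i hi h1 hE t 0).2 (hres t ht)
    obtain ⟨j, i', s, hjc, hi'c, hj, hi', hij, hj1, hi'1, hs, hker⟩ := exists_hyperplane_through hn i hi h1
    haveI := hjc
    haveI := hi'c
    have hEj : FlatMod.IsFinLocFree ((Scheme.Modules.pullback j).obj E) :=
      Groth.L20.DescLocus.isFinLocFree_pullback j hE
    have hIH := subsingleton_h0_of_trivial_line n i' hi' hi'1 _ hEj fun t' ht' =>
      Groth.L22.Reg.subsingleton_iso (tensorIso ((Scheme.Modules.pullbackCongr hij).app E).symm (Iso.refl _) ≪≫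
        tensorIso ((Scheme.Modules.pullbackComp i' j).app E).symm (Iso.refl _)) 0 (hres t' ht')
    obtain ⟨b, hb⟩ := Groth.L22.PDual.exists_low_locFree (n := n + 1) (by omega) hE
    suffices h : ∀ (c : ℕ) (t : ℤ), t ≤ -1 → t ≤ b + c →
        Subsingleton (Coh.HH (CohB1.ProjSpace (n + 1) k) (tw' E t) 0) from h (t - b).toNat t ht (by omega)
    intro c
    induction c with
    | zero => exact fun t _ htb => hb t (by simpa using htb)
    | succ c ih =>
      intro t ht htc
      exact subsingleton_up j hj hj1 hs hker hE (ih (t - 1) (by omega) (by push_cast at htc; omega)) (hIH t ht)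

/-- A bundle without middle cohomology on a plane has none on the whole space. -/
theorem subsingleton_mid_of_plane : ∀ (n : ℕ) (i : CohB1.ProjSpace 2 k ⟶ CohB1.ProjSpace n k)
    [IsClosedImmersion i], i ≫ CohB1.ProjSpace.toSpec n k = CohB1.ProjSpace.toSpec 2 k →
    Nonempty ((Scheme.Modules.pullback i).obj (O' n k 1) ≅ O' 2 k 1) →
    ∀ (E : (CohB1.ProjSpace n k).Modules), FlatMod.IsFinLocFree E →
    (∀ t : ℤ, Subsingleton (Coh.HH (CohB1.ProjSpace 2 k) (tw' ((Scheme.Modules.pullback i).obj E) t) 1)) →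
    ∀ (t : ℤ) (q : ℕ), 0 < q → q < n → Subsingleton (Coh.HH (CohB1.ProjSpace n k) (tw' E t) q)
  | 0, i, _, _, _, _, _, _, _, _, _, _ => absurd (dim_le_of_closed i) (by omega)
  | n + 1, i, _, hi, h1, E, hE, hres, t, q, hq0, hqn => by
    rcases Nat.lt_or_ge n 2 with hn | hn
    · obtain rfl : n = 1 := by have := dim_le_of_closed i; omega
      obtain rfl : q = 1 := by omega
      haveI := isIso_of_closed i
      exact (subsingleton_iff_of_isIso i hi h1 hE t 1).2 (hres t)
    obtain ⟨j, i', s, hjc, hi'c, hj, hi', hij, hj1, hi'1, hs, hker⟩ := exists_hyperplane_through hn i hi h1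
    haveI := hjc
    haveI := hi'c
    have hEj : FlatMod.IsFinLocFree ((Scheme.Modules.pullback j).obj E) :=
      Groth.L20.DescLocus.isFinLocFree_pullback j hE
    have hIH := subsingleton_mid_of_plane n i' hi' hi'1 _ hEj fun t' =>
      Groth.L22.Reg.subsingleton_iso (tensorIso ((Scheme.Modules.pullbackCongr hij).app E).symm (Iso.refl _) ≪≫
        tensorIso ((Scheme.Modules.pullbackComp i' j).app E).symm (Iso.refl _)) 1 (hres t')
    rcases eq_or_ne q 1 with rfl | hq1
    · obtain ⟨b, hb⟩ := exists_low_mid (k := k) (n := n + 1) (q := 1) (by omega) hE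
      suffices h : ∀ (c : ℕ) (t : ℤ), t ≤ b + c →
          Subsingleton (Coh.HH (CohB1.ProjSpace (n + 1) k) (tw' E t) 1) from h (t - b).toNat t (by omega)
      intro c
      induction c with
      | zero => exact fun t htb => hb t (by simpa using htb)
      | succ c ih =>
        intro t htc
        exact subsingleton_up j hj hj1 hs hker hE (ih (t - 1) (by push_cast at htc; omega)) (hIH t 1 one_pos (by omega))
    · obtain ⟨p, rfl⟩ : ∃ p, q = p + 1 := ⟨q - 1, by omega⟩
      obtain ⟨d, hd⟩ := ProjSpace.exists_vanishing (n + 1) k E (Groth.L16.NegPow.isCoh_of_isFinLocFree hE)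
      suffices h : ∀ (c : ℕ) (t : ℤ), (d : ℤ) ≤ t + c →
          Subsingleton (Coh.HH (CohB1.ProjSpace (n + 1) k) (tw' E t) (p + 1)) from
        h ((d : ℤ) - t).toNat t (by omega)
      intro c
      induction c with
      | zero =>
        intro t htd
        obtain ⟨m, rfl⟩ : ∃ m : ℕ, t = m := ⟨t.toNat, by omega⟩
        exact ProjSpace.subsingleton_of_iso (tensorComm _ _) _ (hd m (by omega) _ (by omega))
      | succ c ih =>
        intro t htd
        have := subsingleton_down j hj hj1 hs hker hE (ih (t + 1) (by push_cast at htd; omega))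
          (hIH (t + 1) p (by omega) (by omega))
        rwa [add_sub_cancel_right] at this

end Groth.L03.VBPn
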