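import Groth.Agent.L03.VBPn.Hyper
import Groth.Agent.L03.BlowPt.CurveSeq
import Groth.Agent.L03.BlowPt.ZeroPoint
import Groth.Agent.L17.ProjFormula
import Groth.Agent.L22.CurveAmple.Main
import Groth.Agent.L16.NegPow.Gen
import Groth.Agent.L20.DescLocus.Main
import Groth.Agent.L29.DCoh.PCQCoh

/-!
# Cohomology of vector bundles and of their restrictions to hyperplanes
-/

set_option autoImplicit false
set_option linter.style.haveILetI false
set_option linter.unusedSectionVars false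
set_option backward.isDefEq.respectTransparency false
set_option backward.isDefEq.respectTransparency.types false

universe u

open CategoryTheory CategoryTheory.Limits AlgebraicGeometry TopologicalSpace
open Groth.L22.Reg (O' tw')
open Groth.L16
open Groth.L00.Tensor (tensorIso tensorComm tensorAssoc tensorUnitLeft tensorUnitRight)

noncomputable section

namespace Groth.L03.VBPn

variable {k : Type u} [Field k] {n : ℕ} (j : CohB1.ProjSpace n k ⟶ CohB1.ProjSpace (n + 1) k) [IsClosedImmersion j]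
  (hj : j ≫ CohB1.ProjSpace.toSpec (n + 1) k = CohB1.ProjSpace.toSpec n k)
  (h1 : Nonempty ((Scheme.Modules.pullback j).obj (O' (n + 1) k 1) ≅ O' n k 1))
  {s : Coh.structureModule (CohB1.ProjSpace (n + 1) k) ⟶ O' (n + 1) k 1} (hs : s ≠ 0)
  (hker : j.ker = PicF2.zeroScheme _ s) {E : (CohB1.ProjSpace (n + 1) k).Modules} (hE : FlatMod.IsFinLocFree E)

omit [IsClosedImmersion j] in
include hs hker in
theorem nonempty_idealMod : Nonempty (ClSub.idealMod j.ker ≅ O' (n + 1) k (-1)) := by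
  haveI : IsIntegral (CohB1.ProjSpace (n + 1) k) := ProjSpace.isIntegral (n + 1) k
  haveI : IsProper (CohB1.ProjSpace.toSpec (n + 1) k) := ProjSpace.isProper_toSpec (n + 1) k
  haveI : IsProper ((CohB1.ProjSpace (n + 1) k) ↘ Spec (CommRingCat.of k)) :=
    inferInstanceAs (IsProper (CohB1.ProjSpace.toSpec (n + 1) k))
  haveI := Groth.L21.RR.isNoetherian_of_proper (X := CohB1.ProjSpace (n + 1) k) k
  have hL : PicF.IsInvertible (O' (n + 1) k 1) := ProjTwist.isInvertible_twistProjSpace _ k _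
  obtain ⟨e⟩ := Groth.L03.SurfAmple.nonempty_tensor_zeroScheme hL s
    (Groth.L22.CurveAmple.genericPoint_mem_genLocus hL hs)
  obtain ⟨a⟩ := Groth.L22.Reg.nonempty_O_add (n := n + 1) (R := k) (show (1 : ℤ) + -1 = 0 from rfl)
  obtain ⟨b⟩ := Groth.L22.Reg.nonempty_O_zero (n + 1) k
  rw [hker]
  exact ⟨(tensorUnitRight _).symm ≪≫ tensorIso (Iso.refl _) (a ≪≫ b).symm ≪≫ (tensorAssoc _ _ _).symm ≪≫
    tensorIso e (Iso.refl _) ≪≫ tensorUnitLeft _⟩

include hj h1 hs hker hE

/-- The restriction sequence, in cohomology. -/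
theorem exists_seq (t : ℤ) : ∃ (S : ShortComplex (CohB1.ProjSpace (n + 1) k).Modules),
    S.ShortExact ∧ Nonempty (S.X₁ ≅ tw' E (t - 1)) ∧ Nonempty (S.X₂ ≅ tw' E t) ∧
      ∀ p, Subsingleton (Coh.HH (CohB1.ProjSpace (n + 1) k) S.X₃ p) ↔
        Subsingleton (Coh.HH (CohB1.ProjSpace n k) (tw' ((Scheme.Modules.pullback j).obj E) t) p) := by
  let I := j.ker
  have hEt : FlatMod.IsFinLocFree (tw' E t) := Groth.L29.DC.isFinLocFree_tensor hE
    (Groth.L20.ResDescent.isFinLocFree_of_isInvertible (ProjTwist.isInvertible_twistProjSpace _ k _))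
  obtain ⟨eI⟩ := nonempty_idealMod j hs hker
  obtain ⟨ep⟩ : Nonempty ((Scheme.Modules.pushforward j).obj (Coh.structureModule (CohB1.ProjSpace n k)) ≅
      ClSub.quotMod j.ker) := by
    obtain ⟨u⟩ := Groth.L03.BlowPt.nonempty_push_structure j.toImage
    exact ⟨(Scheme.Modules.pushforwardCongr (Scheme.Hom.toImage_imageι j).symm).app _ ≪≫
      ((Scheme.Modules.pushforwardComp j.toImage j.ker.subschemeι).app _).symm ≪≫
      (Scheme.Modules.pushforward j.ker.subschemeι).mapIso u⟩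
  haveI : Coh.IsQCoh (Coh.structureModule (CohB1.ProjSpace n k)) :=
    Groth.L21.Extend.isQCoh_of_isInvertible (Groth.L18.Ample.isInvertible_structureModule _)
  haveI : Coh.IsQCoh ((Scheme.Modules.pullback j).obj (tw' E t)) :=
    Groth.L29.DC.PCQCoh.isQCoh_of_isFinLocFree (Groth.L20.DescLocus.isFinLocFree_pullback j hEt)
  haveI := Groth.L17.ProjFormula.isIso_θ j (tw' E t) (Coh.structureModule (CohB1.ProjSpace n k)) hEt
  obtain ⟨eP⟩ := nonempty_pullback_tw j h1 E t
  have hS := Groth.L16.FrameIso.shortExact_tensor_left (Groth.L29.DC.isFlat_of_isFinLocFree hEt) _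
    (Groth.L21.RR.shortExact_idealSeq I)
  obtain ⟨e2⟩ := Groth.L22.Reg.nonempty_tw_tw E (show t + -1 = t - 1 by ring)
  refine ⟨_, hS, ⟨tensorIso (Iso.refl _) eI ≪≫ e2⟩, ⟨tensorUnitRight _⟩, fun p => ?_⟩
  let e3 : CohB1.tensorMod (tw' E t) (ClSub.quotMod j.ker) ≅
      (Scheme.Modules.pushforward j).obj (tw' ((Scheme.Modules.pullback j).obj E) t) :=
    tensorIso (Iso.refl _) ep.symm ≪≫
      asIso (Groth.L17.ClosedPush.θ j (Coh.structureModule (CohB1.ProjSpace n k)) (tw' E t)) ≪≫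
      (Scheme.Modules.pushforward j).mapIso (tensorUnitRight _ ≪≫ eP)
  refine (Groth.L22.Reg.subsingleton_congr_iso e3 p).trans ?_
  obtain ⟨g⟩ := Groth.L14.LocHilbLift.nonempty_HH_pushEquiv (k := k) j hj
    (tw' ((Scheme.Modules.pullback j).obj E) t) p
  exact g.toEquiv.subsingleton_congr

/-- Vanishing climbs the twists. -/
theorem subsingleton_up {t : ℤ} {p : ℕ}
    (h0 : Subsingleton (Coh.HH (CohB1.ProjSpace (n + 1) k) (tw' E (t - 1)) p))
    (hH : Subsingleton (Coh.HH (CohB1.ProjSpace n k) (tw' ((Scheme.Modules.pullback j).obj E) t) p)) :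
    Subsingleton (Coh.HH (CohB1.ProjSpace (n + 1) k) (tw' E t) p) := by
  obtain ⟨S, hS, ⟨a⟩, ⟨b⟩, h3⟩ := exists_seq j hj h1 hs hker hE t
  haveI := (h3 p).2 hH
  haveI := Groth.L22.Reg.subsingleton_iso a.symm p h0
  refine Groth.L22.Reg.subsingleton_iso b p (subsingleton_of_forall_eq 0 fun x => ?_)
  obtain ⟨y, rfl⟩ := ((Groth.L16.CohLinear.exact_hmap_hmap hS p) x).1 (Subsingleton.elim _ _)
  rw [Subsingleton.elim y 0]
  exact map_zero _

/-- Vanishing descends the twists. -/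
theorem subsingleton_down {t : ℤ} {p : ℕ}
    (h0 : Subsingleton (Coh.HH (CohB1.ProjSpace (n + 1) k) (tw' E t) (p + 1)))
    (hH : Subsingleton (Coh.HH (CohB1.ProjSpace n k) (tw' ((Scheme.Modules.pullback j).obj E) t) p)) :
    Subsingleton (Coh.HH (CohB1.ProjSpace (n + 1) k) (tw' E (t - 1)) (p + 1)) := by
  obtain ⟨S, hS, ⟨a⟩, ⟨b⟩, h3⟩ := exists_seq j hj h1 hs hker hE t
  haveI := (h3 p).2 hH
  haveI := Groth.L22.Reg.subsingleton_iso b.symm (p + 1) h0
  refine Groth.L22.Reg.subsingleton_iso a (p + 1) (subsingleton_of_forall_eq 0 fun x => ?_)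
  obtain ⟨y, rfl⟩ := ((Groth.L16.CohLinear.exact_delta_hmap hS p) x).1 (Subsingleton.elim _ _)
  rw [Subsingleton.elim y 0]
  exact map_zero _

end Groth.L03.VBPn
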