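import Groth.Agent.L03.VBPn.LinSub
import Groth.Agent.L22.PDual.Horrocks
import Groth.Agent.L22.CurveDeg.ZeroDim
import Groth.Agent.L16.CohLinear

/-!
# Null-correlation bundles on planes
-/

set_option autoImplicit false
set_option linter.style.haveILetI false
set_option linter.unusedSectionVars false
set_option backward.isDefEq.respectTransparency false
set_option backward.isDefEq.respectTransparency.types false

universe u

open CategoryTheory CategoryTheory.Limits AlgebraicGeometry TopologicalSpace Opposite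
open Groth.L16.CohLinear (hmap hmap_comp hmap_id exact_hmap_hmap exact_hmap_delta exact_delta_hmap)
open Groth.L22.Reg (O' tw')
open Groth.L00.Tensor (tensorRightF tensorIso tensorUnitLeft)

noncomputable section

namespace Groth.L03.VBPn

/-- A short exact sequence with locally free last term stays exact under pullback. -/
theorem shortExact_pullback_of_locFree {X X' : Scheme.{u}} {S : ShortComplex X.Modules} (hS : S.ShortExact) {r : ℕ}
    (h3 : FlatMod.IsFinLocFreeOfRank r S.X₃) (g : X' ⟶ X) : (S.map (Scheme.Modules.pullback g)).ShortExact := by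
  refine Groth.L17.BC.Efface.shortExact_pullback hS (fun x => ?_) g
  obtain ⟨e⟩ := Groth.L22.CurveDeg.nonempty_stalk_equiv h3 x
  haveI := hS.mono_f
  haveI := hS.epi_g
  have hx : (S.map (Groth.L00.Stk.F X x)).ShortExact := hS.map_of_exact _
  haveI : Projective (S.map (Groth.L00.Stk.F X x)).X₃ :=
    ModuleCat.projective_of_free ((Pi.basisFun (X.presheaf.stalk x) (Fin r)).map e)
  exact (hx.splittingOfProjective).isSplitMono_f

theorem subsingleton_biprod {X : Scheme.{u}} {A B : X.Modules} {p : ℕ} (hA : Subsingleton (Coh.HH X A p))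
    (hB : Subsingleton (Coh.HH X B p)) : Subsingleton (Coh.HH X (A ⊞ B) p) := by
  have hS : (ShortComplex.mk (biprod.inl : A ⟶ A ⊞ B) biprod.snd biprod.inl_snd).ShortExact :=
    (ShortComplex.Splitting.ofHasBinaryBiproduct A B).shortExact
  refine subsingleton_of_forall_eq 0 fun x => ?_
  obtain ⟨y, rfl⟩ := ((exact_hmap_hmap hS p) x).1 (@Subsingleton.elim _ hB _ _)
  rw [@Subsingleton.elim _ hA y 0]
  exact map_zero _

variable {k : Type u} [Field k] {n : ℕ}

theorem subsingleton_h0_KP_neg (hn : 1 ≤ n) (d : ℤ) (hd : d < 0) :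
    Subsingleton (Coh.HH (CohB1.ProjSpace n k) (tw' (kernel (wX n k)) d) 0) := by
  obtain ⟨e1⟩ := Groth.L22.Reg.nonempty_O_add (n := n) (R := k) (add_neg_cancel d)
  obtain ⟨e0⟩ := Groth.L22.Reg.nonempty_O_zero n k
  haveI : (tensorRightF (O' n k d)).IsEquivalence := Groth.L22.PDual.isEquivalence_tensorRightF (e1 ≪≫ e0)
  have hm : Function.Injective (hmap ((tensorRightF (O' n k d)).map (kernel.ι (wX n k))) 0) := fun a b h => by
    refine (Groth.L21.RR.e0 _).injective (Groth.L19.ProjBdl.injective_app_of_mono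
      ((tensorRightF (O' n k d)).map (kernel.ι (wX n k))) ⊤ ?_)
    rw [← Groth.L21.RR.e0_hmap, ← Groth.L21.RR.e0_hmap, h]
  haveI : Subsingleton (Coh.HH (CohB1.ProjSpace n k) (tw' (FlatMod.freeMod (CohB1.ProjSpace n k) (n + 1)) d) 0) := by
    obtain ⟨z⟩ := Groth.L22.Reg.nonempty_O_zero n k
    exact Groth.L22.PDual.subsingleton_sigma_mid (fun _ : Fin (n + 1) => (0 : ℤ))
      (Sigma.mapIso fun _ => z.symm) d fun _ => ⟨fun h => by omega, fun h => by omega⟩
  exact @Function.Injective.subsingleton _ _ _ hm ‹_›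

end Groth.L03.VBPn
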