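import Groth.Agent.L03.VBPn.EulerKer
import Groth.Agent.L22.Adjunction.PnOmega
import Groth.Agent.L18.Grass.GrassProper
import Groth.Agent.L14.Quot.Sub
import Groth.Agent.L22.Reg.Pn

/-!
# The Euler sequence of projective space
-/

set_option autoImplicit false
set_option linter.style.haveILetI false
set_option linter.unusedSectionVars false
set_option backward.isDefEq.respectTransparency false
set_option backward.isDefEq.respectTransparency.types false

universe u

open CategoryTheory CategoryTheory.Limits AlgebraicGeometry TopologicalSpace Opposite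
open Groth.L18.Frame (rs ro rs_rs ro_ro rs_smul rs_self IsFrame pull pull_rs)
open Groth.L16.ProjSpace (xsec dOpen Xd isFrame_xsec le_dOpen_of_isFrame rs_xsec_eq)
open Groth.L19.ProjBdl (IsBasisOn lc sec locus crd le_locus locus_le isFrame_locus crd_smul)
open Groth.L22.Reg (O' tw')

noncomputable section

namespace Groth.L03.VBPn

variable (n : ℕ) (k : Type u) [Field k]

/-- `O(1)`. -/
abbrev L1 : (CohB1.ProjSpace n k).Modules := Twist.twist (CohB1.polyGrading n k) ((1 : ℕ) : ℤ)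

/-- The coordinates, as a map from the free module of the point. -/
def coordHom : FlatMod.freeMod (Spec (CommRingCat.of k)) (n + 1) ⟶
    (Scheme.Modules.pushforward (CohB1.ProjSpace.toSpec n k)).obj (L1 n k) :=
  Groth.L18.QuotBasis.freeHom _ fun i => xsec n k i

/-- The surjection of the Euler sequence. -/
def eulerU : (Scheme.Modules.pullback (CohB1.ProjSpace.toSpec n k)).obj
    (FlatMod.freeMod (Spec (CommRingCat.of k)) (n + 1)) ⟶ L1 n k :=
  ((Scheme.Modules.pullbackPushforwardAdjunction (CohB1.ProjSpace.toSpec n k)).homEquiv _ _).symm (coordHom n k)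

/-- The unit vectors. -/
def b₀ : Fin (n + 1) → Γ(FlatMod.freeMod (Spec (CommRingCat.of k)) (n + 1), ⊤) :=
  fun i => rs _ (le_top : (⊤ : (Spec (CommRingCat.of k)).Opens) ≤ ⊤) (Groth.L18.QuotBasis.uvec _ _ i)

theorem isBasisOn_b₀ : IsBasisOn (FlatMod.freeMod (Spec (CommRingCat.of k)) (n + 1)) ⊤ (b₀ n k) :=
  Groth.L18.GrassProper.isBasisOn_uvec _ _ ⊤

theorem sec_eq (i : Fin (n + 1)) : sec (CohB1.ProjSpace.toSpec n k) (eulerU n k) (b₀ n k) i = xsec n k i := by
  let p := CohB1.ProjSpace.toSpec n k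
  let adj := Scheme.Modules.pullbackPushforwardAdjunction p
  have h : adj.unit.app _ ≫ (Scheme.Modules.pushforward p).map (eulerU n k) = coordHom n k :=
    (adj.homEquiv_unit _ _ _).symm.trans (Equiv.apply_symm_apply _ _)
  refine (congrArg (fun φ : FlatMod.freeMod (Spec (CommRingCat.of k)) (n + 1) ⟶
    (Scheme.Modules.pushforward p).obj (L1 n k) => φ.app ⊤ (b₀ n k i)) h).trans ?_
  rw [b₀, rs_self]
  exact Groth.L18.QuotBasis.freeHom_uvec _ i

theorem locus_eq (l : Fin (n + 1)) : locus (CohB1.ProjSpace.toSpec n k) (eulerU n k) (b₀ n k) l = dOpen n k l := by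
  refine le_antisymm ?_ ?_
  · have h := isFrame_locus (CohB1.ProjSpace.toSpec n k) (eulerU n k) (b₀ n k) l
    rw [sec_eq] at h
    exact le_dOpen_of_isFrame n k l h
  · refine le_locus _ _ _ (fun _ _ => trivial) ?_
    rw [sec_eq]
    exact isFrame_xsec n k l

theorem crd_eq (l i : Fin (n + 1)) :
    crd (CohB1.ProjSpace.toSpec n k) (eulerU n k) (b₀ n k) l i =
      ro (locus_eq n k l).le (Groth.L22.Adjunction.rat n k l i) := by
  have hf := isFrame_locus (CohB1.ProjSpace.toSpec n k) (eulerU n k) (b₀ n k) l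
  refine hf.inj le_rfl ?_
  rw [rs_self, crd_smul, sec_eq, sec_eq]
  have h := congrArg (rs (L1 n k) (locus_eq n k l).le) (rs_xsec_eq n k l i)
  rw [rs_smul, rs_rs, rs_rs] at h
  exact h

theorem mem_locus (x : CohB1.ProjSpace n k) :
    ∃ l, x ∈ locus (CohB1.ProjSpace.toSpec n k) (eulerU n k) (b₀ n k) l := by
  obtain ⟨l, hl⟩ := Groth.L16.ProjSpace.exists_mem_basicOpen_X n k x
  exact ⟨l, by rw [locus_eq]; exact hl⟩

instance epi_eulerU : Epi (eulerU n k) := by
  refine Groth.L14.Quot.epi_of_stalk _ fun x y => ?_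
  obtain ⟨l, hl⟩ := mem_locus n k x
  obtain ⟨U, hxU, t, rfl⟩ := TopCat.Presheaf.exists_germ_eq (F := (L1 n k).presheaf) (x := x) y
  let p := CohB1.ProjSpace.toSpec n k
  let W := U ⊓ locus p (eulerU n k) (b₀ n k) l
  have hf := isFrame_locus p (eulerU n k) (b₀ n k) l
  obtain ⟨a, ha⟩ := hf.exists_coeff (inf_le_right : W ≤ _) (rs (L1 n k) (inf_le_left : W ≤ U) t)
  have hW : W ≤ p ⁻¹ᵁ (⊤ : (Spec (CommRingCat.of k)).Opens) := fun _ _ => trivial
  refine ⟨((Scheme.Modules.pullback p).obj _).presheaf.germ W x ⟨hxU, hl⟩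
    (a • rs _ hW (pull p _ ⊤ (b₀ n k l))), ?_⟩
  refine (DerSch.stalkFunctor_map_germ x (eulerU n k) W ⟨hxU, hl⟩ _).trans ?_
  have h1 : (eulerU n k).app W (a • rs _ hW (pull p _ ⊤ (b₀ n k l))) = rs (L1 n k) (inf_le_left : W ≤ U) t := by
    rw [Scheme.Modules.Hom.app_smul, Groth.L19.ProjBdl.app_rs, ← ha, rs_rs]
    rfl
  refine (congrArg ((L1 n k).presheaf.germ W x ⟨hxU, hl⟩) h1).trans ?_
  exact TopCat.Presheaf.germ_res_apply _ _ _ _ _

/-- The Euler sequence `0 → Ω(1) → O^{n+1} → O(1) → 0`. -/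
theorem nonempty_kernel_iso :
    Nonempty (CohB1.tensorMod (Omega.sheaf (CohB1.ProjSpace.toSpec n k)) (L1 n k) ≅ kernel (eulerU n k)) := by
  let d : OmegaSh.Der (CohB1.ProjSpace.toSpec n k) (Omega.sheaf (CohB1.ProjSpace.toSpec n k)) :=
    Groth.L22.Adjunction.dP n k
  refine Groth.L03.EulerKer.nonempty_iso_kernel' d
    (fun y => ((Groth.L18.QuotChart.isFinLocFreeOfRank_free _ (n + 1)) y).imp fun O h => ⟨n + 1, h⟩)
    (isBasisOn_b₀ n k) (mem_locus n k) fun l => ?_
  refine ⟨n, finSuccAboveEquiv l, ?_⟩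
  have h : IsBasisOn (Omega.sheaf (CohB1.ProjSpace.toSpec n k)) (dOpen n k l) (Groth.L22.Adjunction.dr n k l) :=
    fun V hV => Groth.L22.Adjunction.isBasisS_dr n k l V hV
  have h' := Groth.L19.ProjBdl.IsBasisOn.mono h (locus_eq n k l).le
  refine Eq.mp (congrArg (IsBasisOn _ _) (funext fun j => ?_)) h'
  rw [crd_eq, Groth.L22.Adjunction.dr, Groth.L19.OmegaSh.der_map]
  rfl

end Groth.L03.VBPn
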