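import Groth.Agent.L03.BlowAcyc.MultSurj
import Groth.Agent.L03.VBPn.CokerSimple
import Groth.Agent.L03.ShStab.QuadricCoh
import Groth.Agent.L08.Cube.SeesawH0

/-!
# A matrix of linear forms on the quadric, surjective on global sections
-/

set_option autoImplicit false
set_option linter.style.haveILetI false
set_option backward.isDefEq.respectTransparency false

universe u

open CategoryTheory CategoryTheory.Limits AlgebraicGeometry TopologicalSpace
open Groth.L00.Tensor (tensorMap tensorIso tensorRightF tensorAssoc tensorUnitLeft tensorUnitRight)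
open Groth.L16.CohLinear (hmap hmap_comp)
open Groth.L22.Reg (Generates mu cI psi psi_natural sm O')
open Groth.L21.RR (e0 e0_hmap oneSec hom_ext_one exists_hom_of_hh0)
open Groth.L03.ShStab.QuadricCoh

noncomputable section

namespace Groth.L03.VBPn.QuadricEpi

section Gen

variable {X : Scheme.{u}}

/-- The class of a map out of the structure sheaf. -/
def cls {M : X.Modules} (φ : Coh.structureModule X ⟶ M) : Coh.HH X M 0 :=
  hmap φ 0 ((e0 _).symm (oneSec X))

theorem exists_cls_eq {M : X.Modules} (y : Coh.HH X M 0) : ∃ φ : Coh.structureModule X ⟶ M, cls φ = y := by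
  obtain ⟨φ, hφ⟩ := exists_hom_of_hh0 y
  exact ⟨φ, (e0 M).injective (by rw [cls, e0_hmap, AddEquiv.apply_symm_apply, hφ])⟩

theorem cls_injective {M : X.Modules} {φ ψ : Coh.structureModule X ⟶ M} (h : cls φ = cls ψ) : φ = ψ :=
  hom_ext_one (by
    have := congrArg (e0 M) h
    rwa [cls, cls, e0_hmap, e0_hmap, AddEquiv.apply_symm_apply] at this)

theorem cls_comp {M N : X.Modules} (φ : Coh.structureModule X ⟶ M) (g : M ⟶ N) :
    cls (φ ≫ g) = hmap g 0 (cls φ) := hmap_comp _ _ _ _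

/-- Sections of a generated twist are combinations of the multiples of sections. -/
theorem hom_mem {G N L : X.Modules} (hL : PicF.IsInvertible L) {σs : List (L ⟶ Coh.structureModule X)}
    (hσ : Generates σs) (e : CohB1.tensorMod N L ≅ Coh.structureModule X)
    (h : ∀ j, j + 2 ≤ σs.length →
      Subsingleton (Coh.HH X (CohB1.tensorMod (CohB1.tensorMod G N) (CohB1.tensorPow L (j + 2))) (j + 1)))
    (S : AddSubgroup (Coh.structureModule X ⟶ CohB1.tensorMod G N))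
    (hS : ∀ σ ∈ σs, ∀ ψ : Coh.structureModule X ⟶ G, ψ ≫ psi e σ G ∈ S)
    (φ : Coh.structureModule X ⟶ CohB1.tensorMod G N) : φ ∈ S := by
  let T : AddSubgroup (Coh.HH X (CohB1.tensorMod G N) 0) :=
    { carrier := {y | ∃ χ ∈ S, cls χ = y}
      add_mem' := by
        rintro _ _ ⟨a, ha, rfl⟩ ⟨b, hb, rfl⟩
        exact ⟨a + b, S.add_mem ha hb, by rw [cls, Groth.L21.RR.hmap_add]; rfl⟩
      zero_mem' := ⟨0, S.zero_mem, by rw [cls, Groth.L21.RR.hmap_zero]⟩
      neg_mem' := by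
        rintro _ ⟨a, ha, rfl⟩
        refine ⟨-a, S.neg_mem ha, eq_neg_of_add_eq_zero_left ?_⟩
        refine Eq.trans (Groth.L21.RR.hmap_add (-a) a 0 _).symm ?_
        rw [neg_add_cancel, Groth.L21.RR.hmap_zero]
      }
  obtain ⟨χ, hχ, h'⟩ := Groth.L03.BlowAcyc.mem_of_twists' hL hσ h T (fun σ hσm z => by
    obtain ⟨ψ, hψ⟩ := exists_cls_eq (hmap (cI e G).hom 0 z)
    refine ⟨_, hS σ hσm ψ, ?_⟩
    have hf : mu σ (CohB1.tensorMod G N) = (cI e G).hom ≫ psi e σ G := by rw [psi, Iso.hom_inv_id_assoc]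
    rw [cls_comp, hψ, hf, hmap_comp]) (cls φ)
  exact cls_injective h' ▸ hχ

theorem bijective_sm_psi {N L : X.Modules} (e : CohB1.tensorMod N L ≅ Coh.structureModule X)
    (σ : L ⟶ Coh.structureModule X) (G : X.Modules) (x : X) (h : Function.Bijective (sm x σ)) :
    Function.Bijective (sm x (psi e σ G)) := by
  have h1 : Function.Bijective (sm x (cI e G).inv) := (ConcreteCategory.isIso_iff_bijective _).1 inferInstance
  have he : (sm x (psi e σ G)) = sm x (mu σ (CohB1.tensorMod G N)) ∘ sm x (cI e G).inv :=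
    funext fun v => by rw [psi, Groth.L22.Reg.sm_comp]; rfl
  rw [he]
  exact (Groth.L22.Reg.bijective_mu x σ h _).comp h1

end Gen

variable (k : Type u) [Field k]

/-- A matrix of linear forms surjective on global sections, and epimorphic. -/
theorem exists_matrix [CharZero k] (r : ℕ) (hr : 2 ≤ r) :
    ∃ m : (∐ fun _ : Fin r => O2 k 1 0) ⊞ (∐ fun _ : Fin r => O2 k 0 1) ⟶ (∐ fun _ : Fin r => O2 k 1 1),
      Epi m ∧ Function.Surjective (hmap m 0) := by
  classical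
  let Q := Qd k
  letI : Q.Over (Spec (CommRingCat.of k)) := ⟨p₁ k ≫ CohB1.ProjSpace.toSpec 1 k⟩
  have hov : p₁ k ≫ CohB1.ProjSpace.toSpec 1 k = (Q ↘ Spec (CommRingCat.of k)) := rfl
  obtain ⟨u0⟩ := nonempty_O2_zero k
  obtain ⟨z⟩ := Groth.L22.Reg.nonempty_O_zero 1 k
  have hk : Function.Bijective (Coh.toGlobal (Q ↘ Spec (CommRingCat.of k))) := by
    refine (Groth.L08.Cube.bijective_toGlobal_of_finrank (Q ↘ Spec (CommRingCat.of k)) ?_).2
    exact (Groth.L03.Euler.finrank_HH_of_iso (k := k) u0 0).symm.trans (by simpa using (finrank_H0_O2 k hov 0 0).2)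
  let P1 := fun d : ℤ => (Scheme.Modules.pullback (p₁ k)).obj (O' 1 k d)
  let P2 := fun d : ℤ => (Scheme.Modules.pullback (p₂ k)).obj (O' 1 k d)
  let iz : ∀ g : Q ⟶ CohB1.ProjSpace 1 k, (Scheme.Modules.pullback g).obj (O' 1 k 0) ≅ Coh.structureModule Q :=
    fun g => (Scheme.Modules.pullback g).mapIso z ≪≫ Groth.L29.LocFree.pullbackUnitIso g
  obtain ⟨e1'⟩ := nonempty_pull_add k (p₁ k) (show (1 : ℤ) + -1 = 0 by norm_num)
  obtain ⟨e2'⟩ := nonempty_pull_add k (p₂ k) (show (1 : ℤ) + -1 = 0 by norm_num)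
  let e1 : CohB1.tensorMod (P1 1) (P1 (-1)) ≅ Coh.structureModule Q := e1' ≪≫ iz _
  let e2 : CohB1.tensorMod (P2 1) (P2 (-1)) ≅ Coh.structureModule Q := e2' ≪≫ iz _
  let σ : Fin 2 → (P1 (-1) ⟶ Coh.structureModule Q) := fun a =>
    (Scheme.Modules.pullback (p₁ k)).map (Groth.L22.Reg.sigma 1 k a) ≫ (Groth.L29.LocFree.pullbackUnitIso _).hom
  let τ : Fin 2 → (P2 (-1) ⟶ Coh.structureModule Q) := fun b =>
    (Scheme.Modules.pullback (p₂ k)).map (Groth.L22.Reg.sigma 1 k b) ≫ (Groth.L29.LocFree.pullbackUnitIso _).hom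
  have hσ : Generates (List.ofFn σ) := by
    have := generates_pullback (p₁ k) (Groth.L22.Reg.generates_sigmas (n := 1) (R := k))
    simpa [Groth.L22.Reg.sigmas, List.map_ofFn, Function.comp_def] using this
  have hτ : Generates (List.ofFn τ) := by
    have := generates_pullback (p₂ k) (Groth.L22.Reg.generates_sigmas (n := 1) (R := k))
    simpa [Groth.L22.Reg.sigmas, List.map_ofFn, Function.comp_def] using this
  have hi1 : PicF.IsInvertible (P1 (-1)) :=
    Groth.L18.Ample.isInvertible_pullback _ (Groth.L16.ProjTwist.isInvertible_twistProjSpace 1 k _)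
  have hi2 : PicF.IsInvertible (P2 (-1)) :=
    Groth.L18.Ample.isInvertible_pullback _ (Groth.L16.ProjTwist.isInvertible_twistProjSpace 1 k _)
  let O := Coh.structureModule Q
  let A := CohB1.tensorMod O (P1 1)
  let B := CohB1.tensorMod O (P2 1)
  let P := CohB1.tensorMod A (P2 1)
  let x : Fin 2 → (O ⟶ A) := fun a => psi e1 (σ a) O
  let y : Fin 2 → (O ⟶ B) := fun b => psi e2 (τ b) O
  let Y : Fin 2 → (A ⟶ P) := fun b => psi e2 (τ b) A
  let Xm : Fin 2 → (B ⟶ P) := fun a => tensorMap (x a) (𝟙 (P2 1))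
  let w : Fin 2 → Fin 2 → (O ⟶ P) := fun a b => x a ≫ Y b
  have hw : ∀ a b, y b ≫ Xm a = w a b := fun a b => (psi_natural e2 (τ b) (x a)).symm
  have hpow2 : ∀ (g : Q ⟶ CohB1.ProjSpace 1 k) (j : ℕ), Nonempty
      (CohB1.tensorPow ((Scheme.Modules.pullback g).obj (O' 1 k (-1))) j ≅
        (Scheme.Modules.pullback g).obj (O' 1 k (-(j : ℤ)))) := fun g j => by
    obtain ⟨e⟩ := Groth.L22.Reg.nonempty_O_pow (n := 1) (R := k) j
    exact ⟨(Groth.L18.Ample.pullPow g _ j).symm ≪≫ (Scheme.Modules.pullback g).mapIso e⟩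
  have hsub : ∀ (a b : ℤ) (q : ℕ) (M : Q.Modules), (M ≅ O2 k a b) →
      (∀ p t : ℕ, p + t = q → ¬ (NZ p a ∧ NZ t b)) → Subsingleton (Coh.HH Q M q) := fun a b q M e h =>
    Groth.L22.Reg.subsingleton_iso e.symm q (subsingleton_O2 k hov a b q h)
  have hspanA : ∀ φ : O ⟶ A, φ ∈ Submodule.span k (Set.range x) := fun φ => by
    refine hom_mem hi1 hσ e1 (fun j hj => ?_) (Submodule.span k (Set.range x)).toAddSubgroup (fun s hs ψ => ?_) φ
    · have hj0 : j = 0 := by simp at hj; omega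
      subst hj0
      obtain ⟨ep⟩ := hpow2 (p₁ k) 2
      obtain ⟨eq⟩ := nonempty_pull_add k (p₁ k) (show (1 : ℤ) + -((2 : ℕ) : ℤ) = -1 by norm_num)
      exact hsub (-1) 0 1 _ (tensorIso (tensorUnitLeft _) ep ≪≫ eq ≪≫ (tensorUnitRight _).symm ≪≫
        tensorIso (Iso.refl _) (iz _).symm) (fun p t h => by unfold NZ; omega)
    · obtain ⟨a, rfl⟩ := List.mem_ofFn.1 hs
      obtain ⟨c, rfl⟩ := Groth.L03.VBPn.exists_eq_smul_id hk (tensorUnitLeft (Coh.structureModule Q)) ψ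
      rw [Linear.smul_comp, Category.id_comp]
      exact Submodule.smul_mem _ c (Submodule.subset_span ⟨a, rfl⟩)
  have hspanP : ∀ φ : O ⟶ P, φ ∈ Submodule.span k (Set.range fun ab : Fin 2 × Fin 2 => w ab.1 ab.2) := fun φ => by
    refine hom_mem hi2 hτ e2 (fun j hj => ?_)
      (Submodule.span k (Set.range fun ab : Fin 2 × Fin 2 => w ab.1 ab.2)).toAddSubgroup (fun s hs ψ => ?_) φ
    · have hj0 : j = 0 := by simp at hj; omega
      subst hj0
      obtain ⟨ep⟩ := hpow2 (p₂ k) 2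
      obtain ⟨eq⟩ := nonempty_pull_add k (p₂ k) (show (1 : ℤ) + -((2 : ℕ) : ℤ) = -1 by norm_num)
      exact hsub 1 (-1) 1 _ (tensorAssoc _ _ _ ≪≫ tensorIso (tensorUnitLeft _) (tensorIso (Iso.refl _) ep ≪≫ eq))
        (fun p t h => by unfold NZ; omega)
    · obtain ⟨b, rfl⟩ := List.mem_ofFn.1 hs
      obtain ⟨c, rfl⟩ := Submodule.mem_span_range_iff_exists_fun k |>.1 (hspanA ψ)
      rw [Preadditive.sum_comp]
      refine AddSubgroup.sum_mem _ fun a _ => ?_
      rw [Linear.smul_comp]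
      exact Submodule.smul_mem _ _ (Submodule.subset_span ⟨(a, b), rfl⟩)
  -- the matrix
  haveI : NeZero r := ⟨by omega⟩
  let ν : Fin r → Fin r := fun i => i + 1
  have hν : ∀ i, ν i ≠ i := fun i h => by
    have h0 : (1 : Fin r) = 0 := add_left_cancel (h.trans (add_zero i).symm)
    have := congrArg Fin.val h0
    rw [Fin.val_one', Nat.one_mod_eq_one.2 (by omega), Fin.val_zero] at this
    omega
  let sc : Fin r → k := fun i => (i.val : k)
  have hsc : ∀ i, sc i - sc (ν i) ≠ 0 := fun i h => hν i (Fin.ext (Nat.cast_injective (sub_eq_zero.1 h).symm))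
  let ι := Sigma.ι (fun _ : Fin r => P)
  let m1 : (∐ fun _ : Fin r => A) ⟶ ∐ fun _ : Fin r => P :=
    Sigma.desc fun i => (Y 0 + sc i • Y 1) ≫ ι i
  let m2 : (∐ fun _ : Fin r => B) ⟶ ∐ fun _ : Fin r => P :=
    Sigma.desc fun i => Xm 0 ≫ ι (ν i) + Xm 1 ≫ ι i
  let m := biprod.desc m1 m2
  let W : Submodule k (O ⟶ ∐ fun _ : Fin r => P) := LinearMap.range (Linear.rightComp k O m)
  have h1 : ∀ a i, w a 0 ≫ ι i + sc i • (w a 1 ≫ ι i) ∈ W := fun a i =>
    ⟨x a ≫ Sigma.ι (fun _ : Fin r => A) i ≫ biprod.inl, by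
      show (x a ≫ Sigma.ι (fun _ : Fin r => A) i ≫ biprod.inl) ≫ m = _
      simp only [m, m1, Category.assoc, biprod.inl_desc, Sigma.ι_desc]
      simp only [w, Preadditive.add_comp, Preadditive.comp_add, Linear.smul_comp, Linear.comp_smul, Category.assoc]⟩
  have h2 : ∀ b i, w 0 b ≫ ι (ν i) + w 1 b ≫ ι i ∈ W := fun b i =>
    ⟨y b ≫ Sigma.ι (fun _ : Fin r => B) i ≫ biprod.inr, by
      show (y b ≫ Sigma.ι (fun _ : Fin r => B) i ≫ biprod.inr) ≫ m = _
      simp only [m, m2, Category.assoc, biprod.inr_desc, Sigma.ι_desc]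
      rw [Preadditive.comp_add, ← Category.assoc, hw, ← Category.assoc, hw]⟩
  have h11 : ∀ i, w 1 1 ≫ ι i ∈ W := fun i => by
    have h := W.sub_mem (W.sub_mem (W.add_mem (h1 0 (ν i)) (h1 1 i)) (h2 0 i)) (W.smul_mem (sc (ν i)) (h2 1 i))
    have h' : (sc i - sc (ν i)) • (w 1 1 ≫ ι i) ∈ W := by convert h using 1; module
    have := W.smul_mem (sc i - sc (ν i))⁻¹ h'
    rwa [smul_smul, inv_mul_cancel₀ (hsc i), one_smul] at this
  have hbij : Function.Bijective ν := (Equiv.addRight (1 : Fin r)).bijective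
  have hall : ∀ a b i, w a b ≫ ι i ∈ W := by
    have h10 : ∀ i, w 1 0 ≫ ι i ∈ W := fun i => by
      have h := W.sub_mem (h1 1 i) (W.smul_mem (sc i) (h11 i)); simpa using h
    have h01 : ∀ i, w 0 1 ≫ ι i ∈ W := fun i => by
      obtain ⟨j, rfl⟩ := hbij.2 i
      have h := W.sub_mem (h2 1 j) (h11 j); simpa using h
    have h00 : ∀ i, w 0 0 ≫ ι i ∈ W := fun i => by
      have h := W.sub_mem (h1 0 i) (W.smul_mem (sc i) (h01 i)); simpa using h
    intro a b i
    fin_cases a <;> fin_cases b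
    exacts [h00 i, h01 i, h10 i, h11 i]
  obtain ⟨pr, hid, -⟩ := id_sigma (fun _ : Fin r => P)
  have hW : ∀ φ : O ⟶ ∐ fun _ : Fin r => P, φ ∈ W := fun φ => by
    rw [← Category.comp_id φ, hid, Preadditive.comp_sum]
    refine W.sum_mem fun i _ => ?_
    obtain ⟨c, hc⟩ := Submodule.mem_span_range_iff_exists_fun k |>.1 (hspanP (φ ≫ pr i))
    rw [← Category.assoc, ← hc, Preadditive.sum_comp]
    refine W.sum_mem fun ab _ => ?_
    rw [Linear.smul_comp]
    exact W.smul_mem _ (hall _ _ i)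
  have hsurj : Function.Surjective (hmap m 0) := fun v => by
    obtain ⟨φ, rfl⟩ := exists_cls_eq v
    obtain ⟨g, hg⟩ := hW φ
    exact ⟨cls g, by rw [← cls_comp]; exact congrArg cls hg⟩
  have hepi : Epi m := Preadditive.epi_of_cancel_zero _ fun {M} g hg => by
    refine Sigma.hom_ext _ _ fun i => ?_
    rw [comp_zero]
    refine Groth.L21.Mod.hom_ext_stalk fun p => ?_
    obtain ⟨s, hs, hbs⟩ := hσ p
    obtain ⟨a, rfl⟩ := List.mem_ofFn.1 hs
    obtain ⟨t, ht, hbt⟩ := hτ p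
    obtain ⟨b, rfl⟩ := List.mem_ofFn.1 ht
    obtain ⟨gg, hgg⟩ := hW (w a b ≫ ι i)
    have h0 : w a b ≫ ι i ≫ g = 0 := by
      rw [← Category.assoc, ← hgg]
      show (gg ≫ m) ≫ g = 0
      rw [Category.assoc, hg, comp_zero]
    ext v
    obtain ⟨v', rfl⟩ := (bijective_sm_psi e2 (τ b) A p hbt).2 v
    obtain ⟨v'', rfl⟩ := (bijective_sm_psi e1 (σ a) O p hbs).2 v'
    show sm p (ι i ≫ g) (sm p (Y b) (sm p (x a) v'')) = sm p (0 : P ⟶ M) (sm p (Y b) (sm p (x a) v''))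
    rw [← Groth.L22.Reg.sm_comp, ← Groth.L22.Reg.sm_comp, Groth.L22.Reg.sm_zero,
      show x a ≫ Y b ≫ ι i ≫ g = 0 from (Category.assoc _ _ _).symm.trans h0, Groth.L22.Reg.sm_zero]
  -- transport to the bidegrees
  let eA : O2 k 1 0 ≅ A := tensorIso (Iso.refl _) (iz _) ≪≫ tensorUnitRight _ ≪≫ (tensorUnitLeft _).symm
  let eB : O2 k 0 1 ≅ B := tensorIso (iz _) (Iso.refl _)
  let eP : P ≅ O2 k 1 1 := tensorIso (tensorUnitLeft _) (Iso.refl _)
  let eS : (∐ fun _ : Fin r => O2 k 1 0) ⊞ (∐ fun _ : Fin r => O2 k 0 1) ≅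
      (∐ fun _ : Fin r => A) ⊞ (∐ fun _ : Fin r => B) :=
    biprod.mapIso (Sigma.mapIso fun _ => eA) (Sigma.mapIso fun _ => eB)
  let eT : (∐ fun _ : Fin r => P) ≅ ∐ fun _ : Fin r => O2 k 1 1 := Sigma.mapIso fun _ => eP
  refine ⟨eS.hom ≫ m ≫ eT.hom, inferInstance, fun v => ?_⟩
  obtain ⟨v', hv'⟩ := hsurj (hmap eT.inv 0 v)
  refine ⟨hmap eS.inv 0 v', ?_⟩
  rw [← hmap_comp, Iso.inv_hom_id_assoc, hmap_comp, hv', ← hmap_comp, eT.inv_hom_id]
  exact Groth.L16.CohLinear.hmap_id _ _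

end Groth.L03.VBPn.QuadricEpi
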